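import Mathlib.GroupTheory.OrderOfElement
import Mathlib.Algebra.Group.Subgroup.Pointwise
import Mathlib.Tactic.Group

/-!
A group generated by `B` and two involutions with twelve double cosets, and the reduction of its
conjugacy classes to the double cosets of elements of minimal length.
-/

set_option autoImplicit false

namespace CfsgLib.SpecD4Two

variable {Γ : Type*} [Group Γ]

/-- Double coset data. -/
structure CellData (B : Subgroup Γ) (n : Fin 2 → Γ) (nw : Fin 12 → Γ) (σ : Fin 2 → Fin 12 → Fin 12)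
    (up : Fin 2 → Fin 12 → Bool) (U : Fin 2 → Set Γ) where
  R : Fin 2 → Subgroup Γ
  R_le : ∀ i, R i ≤ B
  sq : ∀ i, n i * n i = 1
  factor : ∀ i, ∀ b ∈ B, ∃ u ∈ U i, ∃ r ∈ R i, b = u * r
  conjR : ∀ i, ∀ r ∈ R i, n i * r * n i ∈ R i
  flip : ∀ i, ∀ u ∈ U i, u ≠ 1 → ∃ b ∈ B, ∃ b' ∈ B, n i * u * n i = b * n i * b'
  one : nw 0 = 1
  cases : ∀ i w, up i w = true ∨ up i (σ i w) = true ∧ σ i (σ i w) = w
  step : ∀ i w, up i w = true → ∃ b ∈ B, n i * nw w = nw (σ i w) * b
  move : ∀ i w, up i w = true → ∀ u ∈ U i, ∃ b ∈ B, u * nw w = nw w * b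

variable {B : Subgroup Γ} {n : Fin 2 → Γ} {nw : Fin 12 → Γ} {σ : Fin 2 → Fin 12 → Fin 12}
  {up : Fin 2 → Fin 12 → Bool} {U : Fin 2 → Set Γ}

/-- A double coset. -/
def InCell (B : Subgroup Γ) (nw : Fin 12 → Γ) (w : Fin 12) (x : Γ) : Prop :=
  ∃ b ∈ B, ∃ b' ∈ B, x = b * nw w * b'

theorem InCell.left {w : Fin 12} {x a : Γ} (ha : a ∈ B) (h : InCell B nw w x) :
    InCell B nw w (a * x) := by
  obtain ⟨b, hb, b', hb', rfl⟩ := h
  exact ⟨a * b, mul_mem ha hb, b', hb', by group⟩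

theorem InCell.right {w : Fin 12} {x a : Γ} (ha : a ∈ B) (h : InCell B nw w x) :
    InCell B nw w (x * a) := by
  obtain ⟨b, hb, b', hb', rfl⟩ := h
  exact ⟨b, hb, b' * a, mul_mem hb' ha, by group⟩

namespace CellData

variable (D : CellData B n nw σ up U)
include D

theorem left_up {i : Fin 2} {w : Fin 12} (h : up i w = true) {b : Γ} (hb : b ∈ B) :
    InCell B nw (σ i w) (n i * b * nw w) := by
  obtain ⟨u, hu, r, hr, rfl⟩ := D.factor i b hb
  -- move `r` past `n i` after exchanging it with `u`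
  obtain ⟨u1, hu1, r1, hr1, e1⟩ := D.factor i (u * r)⁻¹ (inv_mem hb)
  have e : u * r = r1⁻¹ * u1⁻¹ := by rw [← inv_inv (u * r), e1, mul_inv_rev]
  obtain ⟨c, hc, hc'⟩ := D.move i w h u1 hu1
  obtain ⟨b0, hb0, hb0'⟩ := D.step i w h
  refine ⟨n i * r1⁻¹ * n i, D.R_le i (D.conjR i _ (inv_mem hr1)), b0 * c⁻¹,
    mul_mem hb0 (inv_mem hc), ?_⟩
  have hc'' : u1⁻¹ * nw w = nw w * c⁻¹ := by
    rw [eq_mul_inv_iff_mul_eq, mul_assoc, ← hc', ← mul_assoc, inv_mul_cancel, one_mul]
  calc n i * (u * r) * nw w = n i * r1⁻¹ * (u1⁻¹ * nw w) := by rw [e]; group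
    _ = n i * r1⁻¹ * (n i * n i) * (nw w * c⁻¹) := by rw [hc'', D.sq]; group
    _ = n i * r1⁻¹ * n i * (n i * nw w) * c⁻¹ := by group
    _ = n i * r1⁻¹ * n i * nw (σ i w) * (b0 * c⁻¹) := by rw [hb0']; group

theorem exists_cell_left (i : Fin 2) (w : Fin 12) {b : Γ} (hb : b ∈ B) :
    ∃ x, InCell B nw x (n i * b * nw w) := by
  rcases D.cases i w with h | ⟨h, hσ⟩
  · exact ⟨_, D.left_up h hb⟩
  obtain ⟨b0, hb0, hb0'⟩ := D.step i _ h
  rw [hσ] at hb0'
  have hw : nw w = n i * nw (σ i w) * b0⁻¹ := by rw [hb0']; group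
  obtain ⟨u, hu, r, hr, rfl⟩ := D.factor i b hb
  have hr' := D.conjR i r hr
  by_cases h1 : u = 1
  · subst h1
    refine ⟨σ i w, n i * r * n i, D.R_le i hr', b0⁻¹, inv_mem hb0, ?_⟩
    rw [hw]; group
  obtain ⟨c, hc, c', hc', hcc⟩ := D.flip i u hu h1
  refine ⟨σ i (σ i w), ?_⟩
  have key : n i * (u * r) * nw w =
      c * (n i * (c' * (n i * r * n i)) * nw (σ i w)) * b0⁻¹ := by
    calc n i * (u * r) * nw w = n i * u * r * (n i * nw (σ i w) * b0⁻¹) := by rw [hw]; group
      _ = n i * u * (n i * n i) * r * (n i * nw (σ i w) * b0⁻¹) := by rw [D.sq]; group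
      _ = n i * u * n i * (n i * r * n i) * nw (σ i w) * b0⁻¹ := by group
      _ = _ := by rw [hcc]; group
  rw [key]
  exact ((D.left_up h (mul_mem hc' (D.R_le i hr'))).left hc).right (inv_mem hb0)

/-- Every element of the generated group lies in a double coset. -/
theorem exists_cell {x : Γ} (hx : x ∈ B ⊔ Subgroup.closure (Set.range n)) :
    ∃ w, InCell B nw w x := by
  have : B ⊔ Subgroup.closure (Set.range n) =
      Subgroup.closure ((B : Set Γ) ∪ Set.range n) := by
    rw [Subgroup.closure_union, Subgroup.closure_eq]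
  rw [this] at hx
  induction hx using Subgroup.closure_induction_left with
  | one => exact ⟨0, 1, one_mem _, 1, one_mem _, by rw [D.one]; group⟩
  | mul_left g hg y _ ih =>
    obtain ⟨w, hw⟩ := ih
    rcases hg with hg | ⟨i, rfl⟩
    · exact ⟨w, hw.left hg⟩
    · obtain ⟨b, hb, b', hb', rfl⟩ := hw
      obtain ⟨v, hv⟩ := D.exists_cell_left i w hb
      exact ⟨v, by rw [show n i * (b * nw w * b') = n i * b * nw w * b' by group]; exact hv.right hb'⟩
  | inv_mul_cancel g hg y _ ih =>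
    obtain ⟨w, hw⟩ := ih
    rcases hg with hg | ⟨i, rfl⟩
    · exact ⟨w, hw.left (inv_mem hg)⟩
    · obtain ⟨b, hb, b', hb', rfl⟩ := hw
      obtain ⟨v, hv⟩ := D.exists_cell_left i w hb
      refine ⟨v, ?_⟩
      rw [show (n i)⁻¹ = n i from inv_eq_of_mul_eq_one_right (D.sq i),
        show n i * (b * nw w * b') = n i * b * nw w * b' by group]
      exact hv.right hb'

omit D in
/-- A cell is good if all its elements conjugate to good ones. -/
def GoodCell (B : Subgroup Γ) (nw : Fin 12 → Γ) (P : Γ → Prop) (w : Fin 12) : Prop :=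
  ∀ x, InCell B nw w x → P x

omit D in
theorem goodCell_of_coset {P : Γ → Prop} (hP : ∀ a b, P (a * b) → P (b * a)) {w : Fin 12}
    (h : ∀ b ∈ B, P (nw w * b)) : GoodCell B nw P w := by
  rintro x ⟨b, hb, b', hb', rfl⟩
  have h1 := h (b' * b) (mul_mem hb' hb)
  rw [show b * nw w * b' = b * (nw w * b') by group]
  refine hP (nw w * b') b ?_
  rwa [mul_assoc]

/-- The double cosets of `v * s` for `s` a reflection, on the right. -/
theorem right_up {i : Fin 2} {v v' : Fin 12} {e : Γ} (he : e ∈ B)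
    (hstep : nw v * n i = nw v' * e) (hmove : ∀ u ∈ U i, ∃ b ∈ B, nw v * u = b * nw v)
    {b : Γ} (hb : b ∈ B) : InCell B nw v' (nw v * b * n i) := by
  obtain ⟨u, hu, r, hr, rfl⟩ := D.factor i b hb
  obtain ⟨c, hc, hc'⟩ := hmove u hu
  refine ⟨c, hc, e * (n i * r * n i), mul_mem he (D.R_le i (D.conjR i r hr)), ?_⟩
  calc nw v * (u * r) * n i = nw v * u * (n i * n i) * r * n i := by rw [D.sq]; group
    _ = c * (nw v * n i) * (n i * r * n i) := by rw [hc']; group
    _ = _ := by rw [hstep]; group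

/-- A cyclic shift. -/
theorem goodCell_rotate {P : Γ → Prop} (hP : ∀ a b, P (a * b) → P (b * a)) {i : Fin 2}
    {w v v' : Fin 12} {d e : Γ} (hd : d ∈ B) (hw : nw w = n i * nw v * d) (he : e ∈ B)
    (hstep : nw v * n i = nw v' * e) (hmove : ∀ u ∈ U i, ∃ b ∈ B, nw v * u = b * nw v)
    (h : GoodCell B nw P v') : GoodCell B nw P w := by
  rintro x ⟨b, hb, b', hb', rfl⟩
  rw [show b * nw w * b' = b * n i * (nw v * (d * b')) by rw [hw]; group]
  refine hP _ _ (h _ ?_)
  rw [show nw v * (d * b') * (b * n i) = nw v * (d * b' * b) * n i by group]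
  exact D.right_up he hstep hmove (mul_mem (mul_mem hd hb') hb)

/-- A conjugation shortening by two. -/
theorem goodCell_shorten {P : Γ → Prop} (hP : ∀ a b, P (a * b) → P (b * a)) {i : Fin 2}
    {w v v' : Fin 12} {d e : Γ} (hd : d ∈ B) (hw : nw w = n i * nw v * n i * d) (he : e ∈ B)
    (hstep : nw v * n i = nw v' * e) (hmove : ∀ u ∈ U i, ∃ b ∈ B, nw v * u = b * nw v)
    (h : GoodCell B nw P v) (h' : GoodCell B nw P v') : GoodCell B nw P w := by
  rintro x ⟨b, hb, b', hb', rfl⟩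
  rw [show b * nw w * b' = b * n i * (nw v * n i * (d * b')) by rw [hw]; group]
  refine hP _ _ ?_
  obtain ⟨u, hu, r, hr, hur⟩ := D.factor i (d * b' * b) (mul_mem (mul_mem hd hb') hb)
  have hr' := D.conjR i r hr
  rw [show nw v * n i * (d * b') * (b * n i) = nw v * (n i * (d * b' * b) * n i) by group, hur]
  by_cases h1 : u = 1
  · subst h1
    exact h _ ⟨1, one_mem _, n i * r * n i, D.R_le i hr', by group⟩
  obtain ⟨c, hc, c', hc', hcc⟩ := D.flip i u hu h1
  refine h' _ ?_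
  have key : nw v * (n i * (u * r) * n i) = nw v * c * n i * (c' * (n i * r * n i)) := by
    calc nw v * (n i * (u * r) * n i) = nw v * (n i * u * (n i * n i) * r * n i) := by
          rw [D.sq]; group
      _ = nw v * (n i * u * n i * (n i * r * n i)) := by group
      _ = _ := by rw [hcc]; group
  rw [key]
  exact (D.right_up he hstep hmove hc).right (mul_mem hc' (D.R_le i hr'))

end CellData

end CfsgLib.SpecD4Two
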