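import Cfsg.Agent.Lib.SpecD4Two.Check

/-!
The certificate of double coset number 0.
-/

set_option autoImplicit false
set_option maxRecDepth 100000
set_option maxHeartbeats 2000000
set_option Elab.async false

namespace CfsgLib.SpecD4Two

/-- A certificate. -/
def cert0_0 : Cert := .node [.node [.node [.node [.node [.node [.ord 4, .ord 4], .node [.ord 4, .link 64 0 0]], .node [.node [.ord 4, .link 25792 0 0], .link 8 0 0], .link 4 1 0, .link 5 1 0, .link 1 1 0, .link 3 1 0, .link 2 1 0, .link 6 1 0], .node [.node [.node [.ord 4, .link 32320 0 0], .link 8 0 16384], .node [.node [.ord 4, .link 8 0 0], .node [.ord 4, .link 8 0 0]], .link 24 0 16384, .link 24 1 24576, .link 32 0 8192, .link 32 1 8192, .link 56 0 16384, .link 56 1 24576], .link 3 1 0, .link 2 1 0, .link 6 1 0, .link 4 1 0, .link 5 1 0, .link 1 1 0], .node [.node [.node [.node [.ord 4, .link 25792 0 0], .node [.ord 4, .link 64 0 0]], .node [.node [.ord 4, .link 30016 0 0], .node [.ord 4, .link 64 0 0]], .link 4 1 0, .link 5 1 0, .link 1 1 0, .link 3 1 0, .link 2 1 0, .link 6 1 0], .link 8 0 17408, .link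 21 0 19456, .link 28 0 19456, .link 38 0 17408, .link 46 0 19456, .link 53 0 17408, .link 61 0 21504]], .node [.node [.node [.node [.node [.ord 4, .link 9352 0 0], .link 29720 0 0], .node [.node [.ord 4, .ord 4], .link 8 0 0], .link 14744 0 8192, .link 14744 1 16384, .link 15904 0 24576, .link 15904 1 24576, .link 13240 0 8192, .link 13240 1 16384], .link 64 0 25600, .node [.node [.node [.ord 4, .link 25728 0 0], .link 16 0 16384], .link 48 0 16384, .link 8 0 16384, .link 56 0 8192, .link 13192 0 8192, .link 13240 0 0, .link 13184 0 8192, .link 13232 0 8192], .link 64 2 25600, .node [.node [.node [.ord 4, .link 25728 0 0], .link 32 0 16384], .link 48 0 8192, .link 14752 0 16384, .link 13240 0 8192, .link 8 0 16384, .link 56 0 16384, .link 13184 0 24576, .link 14744 0 0], .link 64 4 25600, .node [.node [.node [.ord 4, .link 25728 0 0], .link 48 0 16384], .link 16 0 8192, .link 14720 0 24576, .link 14736 0 0, .link 14728 0 24576, .link 14744 0 8192, .link 8 0 16384, .link 24 0 16384], .link 64 6 25600], .node [.node [.node [.node [.zero 8, .link 7368 0 0], .link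 26824 0 16384], .node [.node [.zero 8, .link 14336 0 0], .link 25800 0 0], .link 30024 0 8192, .link 30024 1 0, .link 27336 0 24576, .link 27336 1 0, .link 28488 0 8192, .link 28488 1 0], .link 8 0 17408, .link 16 0 21504, .link 24 0 22528, .link 32 0 23552, .link 40 0 18432, .link 48 0 19456, .link 56 0 20480]], .link 3 1 0, .link 2 1 0, .link 6 1 0, .link 4 1 0, .link 5 1 0, .link 1 1 0]

/-- A certificate. -/
def cert0_1 : Cert := .node [.node [.node [.node [.node [.node [.inv [65792, 131586, 263172, 2048, 1052688, 2105344, 4210688, 32896], .inv [2162944, 1180162, 263172, 2048, 1052688, 2105344, 4210688, 32896]], .node [.inv [4260096, 131586, 1311748, 2048, 1052688, 2105344, 4210688, 32896], .link 64 0 0]], .link 18433 0 0, .link 28740 0 0, .link 30789 0 0, .link 19458 0 0, .link 25667 0 0, .link 23555 0 0, .link 21505 0 0], .link 1412 0 7168, .link 28485 0 5120, .link 6790 0 7168, .link 2949 0 6144, .link 32326 0 5120, .link 25792 0 5120, .link 4357 0 7168], .node [.node [.node [.node [.inv [65792, 393730, 263172, 2048, 1052688, 2105344, 6307840, 32896], .link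 24646 0 0], .node [.inv [4260128, 393746, 1311748, 2048, 1052688, 2105344, 6307840, 32896], .link 64 0 0]], .link 18433 0 0, .link 28740 0 16384, .link 30789 0 16384, .link 19458 0 0, .link 25667 0 16384, .link 23555 0 0, .link 21505 0 0], .link 1412 0 7168, .link 28485 0 21504, .link 6790 0 7168, .link 2949 0 6144, .link 32326 0 21504, .link 25792 0 21504, .link 4357 0 7168]], .link 28 0 0, .link 53 0 0, .link 46 0 0, .link 61 0 0, .link 38 0 0, .link 8 0 0, .link 21 0 0]

/-- A certificate. -/
def cert0_2 : Cert := .node [.node [.node [.node [.node [.node [.inv [256, 514, 1028, 524288, 4112, 8192, 16384, 8388736], .inv [2105600, 1053186, 1028, 524288, 4112, 8192, 16384, 8388736]], .node [.inv [4210944, 514, 1053700, 524288, 4112, 8192, 16384, 8388736], .link 64 0 0]], .link 28740 0 0, .link 19458 0 0, .link 23555 0 0, .link 30789 0 0, .link 18433 0 0, .link 21505 0 0, .link 25667 0 0], .link 6790 0 6144, .link 25792 0 7168, .link 32326 0 7168, .link 4357 0 6144, .link 2949 0 3072, .link 1412 0 6144, .link 28485 0 7168], .node [.node [.node [.node [.inv [256,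 263682, 1028, 524288, 4112, 8192, 2121728, 8388736], .link 24646 0 0], .node [.inv [4210976, 263698, 1053700, 524288, 4112, 8192, 2121728, 8388736], .link 64 0 0]], .link 28740 0 16384, .link 19458 0 0, .link 23555 0 0, .link 30789 0 16384, .link 18433 0 0, .link 21505 0 0, .link 25667 0 16384], .link 6790 0 6144, .link 25792 0 23552, .link 32326 0 23552, .link 4357 0 6144, .link 2949 0 3072, .link 1412 0 6144, .link 28485 0 23552]], .link 46 0 0, .link 8 0 0, .link 38 0 0, .link 21 0 0, .link 61 0 0, .link 28 0 0, .link 53 0 0]

/-- A certificate. -/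
def cert0_3 : Cert := .node [.node [.node [.node [.node [.node [.inv [65537, 131072, 262144, 526344, 1048576, 2097184, 4194368, 8421376], .inv [73729, 135168, 262144, 526344, 1048576, 2097184, 4194368, 8421376]], .node [.inv [81921, 131072, 266240, 526344, 1048576, 2097184, 4194368, 8421376], .link 64 0 0]], .link 23555 0 0, .link 21505 0 0, .link 18433 0 0, .link 25667 0 0, .link 30789 0 0, .link 28740 0 0, .link 19458 0 0], .link 28485 0 4096, .link 2949 0 1024, .link 25792 0 4096, .link 6790 0 2048, .link 1412 0 2048, .link 4357 0 2048, .link 32326 0 4096], .node [.node [.node [.node [.inv [65537, 132096, 262144, 526344, 1048576, 2097184, 4202560, 8421376], .link 24646 0 0], .node [.inv [90145, 136208, 266240, 526344, 1048576, 2097184, 4202560, 8421376], .link 64 0 0]], .link 23555 0 0, .link 21505 0 0, .link 18433 0 0, .link 25667 0 16384, .link 30789 0 16384, .link 28740 0 16384, .link 19458 0 0], .link 28485 0 20480, .link 2949 0 1024, .link 25792 0 20480, .link 6790 0 2048, .link 1412 0 2048, .link 4357 0 2048, .link 32326 0 20480]], .link 53 0 0, .link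 61 0 0, .link 8 0 0, .link 46 0 0, .link 28 0 0, .link 21 0 0, .link 38 0 0]

/-- A certificate. -/
def cert0_4 : Cert := .node [.node [.node [.node [.node [.node [.inv [65536, 131074, 262148, 526336, 1048592, 2097152, 4194304, 8421504], .inv [73728, 135170, 262148, 526336, 1048592, 2097152, 4194304, 8421504]], .node [.inv [81920, 131074, 266244, 526336, 1048592, 2097152, 4194304, 8421504], .link 64 0 0]], .link 30789 0 0, .link 23555 0 0, .link 25667 0 0, .link 21505 0 0, .link 19458 0 0, .link 18433 0 0, .link 28740 0 0], .link 2949 0 2048, .link 6790 0 4096, .link 4357 0 4096, .link 25792 0 3072, .link 28485 0 3072, .link 32326 0 3072, .link 1412 0 4096], .node [.node [.node [.node [.inv [65536, 132098, 262148, 526336, 1048592, 2097152, 4202496, 8421504], .link 24646 0 0], .node [.inv [81952, 132114, 266244, 526336, 1048592, 2097152, 4202496, 8421504], .link 64 0 0]], .link 30789 0 16384, .link 23555 0 0, .link 25667 0 16384, .link 21505 0 0, .link 19458 0 0, .link 18433 0 0, .link 28740 0 16384], .link 2949 0 2048, .link 6790 0 4096, .link 4357 0 4096, .link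 25792 0 19456, .link 28485 0 19456, .link 32326 0 19456, .link 1412 0 4096]], .link 61 0 0, .link 46 0 0, .link 21 0 0, .link 8 0 0, .link 53 0 0, .link 38 0 0, .link 28 0 0]

/-- A certificate. -/
def cert0_5 : Cert := .node [.node [.node [.node [.node [.node [.inv [257, 512, 1024, 524296, 4096, 8224, 16448, 8388608], .inv [2105601, 1053184, 1024, 524296, 4096, 8224, 16448, 8388608]], .node [.inv [4210945, 512, 1053696, 524296, 4096, 8224, 16448, 8388608], .link 64 0 0]], .link 21505 0 0, .link 25667 0 0, .link 28740 0 0, .link 18433 0 0, .link 23555 0 0, .link 19458 0 0, .link 30789 0 0], .link 32326 0 2048, .link 1412 0 1024, .link 2949 0 5120, .link 28485 0 2048, .link 4357 0 1024, .link 6790 0 1024, .link 25792 0 2048], .node [.node [.node [.node [.inv [257, 263680, 1024, 524296, 4096, 8224, 2121792, 8388608], .link 24646 0 0], .node [.inv [6316321, 1316368, 1053696, 524296, 4096, 8224, 2121792, 8388608], .link 64 0 0]], .link 21505 0 0, .link 25667 0 16384, .link 28740 0 16384, .link 18433 0 0, .link 23555 0 0, .link 19458 0 0, .link 30789 0 16384], .link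 32326 0 18432, .link 1412 0 1024, .link 2949 0 5120, .link 28485 0 18432, .link 4357 0 1024, .link 6790 0 1024, .link 25792 0 18432]], .link 38 0 0, .link 28 0 0, .link 61 0 0, .link 53 0 0, .link 21 0 0, .link 46 0 0, .link 8 0 0]

/-- A certificate. -/
def cert0_6 : Cert := .node [.node [.node [.node [.node [.node [.inv [65793, 131584, 263168, 2056, 1052672, 2105376, 4210752, 32768], .inv [2162945, 1180160, 263168, 2056, 1052672, 2105376, 4210752, 32768]], .node [.inv [4260097, 131584, 1311744, 2056, 1052672, 2105376, 4210752, 32768], .link 64 0 0]], .link 19458 0 0, .link 30789 0 0, .link 21505 0 0, .link 23555 0 0, .link 28740 0 0, .link 25667 0 0, .link 18433 0 0], .link 4357 0 3072, .link 32326 0 6144, .link 28485 0 6144, .link 1412 0 3072, .link 25792 0 6144, .link 2949 0 4096, .link 6790 0 3072], .node [.node [.node [.node [.inv [65793, 393728, 263168, 2056, 1052672, 2105376, 6307904, 32768], .link 24646 0 0], .node [.inv [6357281, 1442320, 1311744, 2056, 1052672, 2105376, 6307904, 32768], .link 64 0 0]], .link 19458 0 0, .link 30789 0 16384, .link 21505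 0 0, .link 23555 0 0, .link 28740 0 16384, .link 25667 0 16384, .link 18433 0 0], .link 4357 0 3072, .link 32326 0 22528, .link 28485 0 22528, .link 1412 0 3072, .link 25792 0 22528, .link 2949 0 4096, .link 6790 0 3072]], .link 21 0 0, .link 38 0 0, .link 53 0 0, .link 28 0 0, .link 8 0 0, .link 61 0 0, .link 46 0 0]

/-- A certificate. -/
def cert0 : Cert := .node [cert0_0, cert0_1, cert0_2, cert0_3, cert0_4, cert0_5, cert0_6]

theorem chk0 : chk gCode 7 (nwCode 0) cert0 = true := by decide +kernel

end CfsgLib.SpecD4Two
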