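import Cfsg.Agent.Lib.SpecD4Two.Check

/-!
The certificate of double coset number 3.
-/

set_option autoImplicit false
set_option maxRecDepth 100000
set_option maxHeartbeats 2000000
set_option Elab.async false

namespace CfsgLib.SpecD4Two

/-- A certificate. -/
def cert3_0 : Cert := .node [.node [.node [.node [.node [.node [.ord 6, .zero 8], .link 16384 0 16384], .node [.node [.zero 12, .ord 7], .link 16384 0 16384], .node [.node [.inv [8921125, 8917072, 8913068, 7800903, 8913032, 8913064, 8913048, 7831751], .inv [8921125, 4312, 8913068, 5703783, 8913032, 8913064, 8913048, 5734631]], .link 16384 0 16384], .node [.node [.inv [8333, 4296, 8913068, 5179519, 8913032, 8913064, 8913048, 13074551], .inv [8333, 8917056, 8913068, 7276639, 8913032, 8913064, 8913048, 15171671]], .link 16384 0 16384], .node [.node [.inv [11044901, 9996368, 8947884, 8353607, 8947848, 8947880, 8947864, 16218055], .inv [11044901, 1048792, 8947884, 6248295, 8947848, 8947880, 8947864, 14112743]], .link 16384 0 16384], .node [.node [.inv [2097293, 1048776, 8947884, 4673407, 8947848, 8947880, 8947864, 4704119], .inv [2097293, 9996352, 8947884,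 6778719, 8947848, 8947880, 8947864, 6809431]], .link 16384 0 16384], .node [.node [.inv [2140197, 1087568, 34988, 556871, 34952, 34984, 34968, 8452039], .inv [2140197, 1052888, 34988, 548711, 34952, 34984, 34968, 8443879]], .link 16384 0 16384], .node [.node [.inv [2105485, 1052872, 34988, 542591, 34952, 34984, 34968, 8406903], .inv [2105485, 1087552, 34988, 550751, 34952, 34984, 34968, 8415063]], .link 16384 0 16384]], .link 128 0 1024, .link 256 0 2048, .link 384 0 3072, .link 512 0 4096, .link 640 0 5120, .link 768 0 6144, .link 896 0 7168], .link 64 0 16384], .link 1024 0 1024, .link 2048 0 2048, .link 3072 0 3072, .link 4096 0 4096, .link 5120 0 5120, .link 6144 0 6144, .link 7168 0 7168]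

/-- A certificate. -/
def cert3 : Cert := .node [cert3_0, .link 4 0 0, .link 1 0 0, .link 5 0 0, .link 2 0 0, .link 6 0 0, .link 3 0 0]

theorem chk3 : chk gCode 7 (nwCode 3) cert3 = true := by decide +kernel

end CfsgLib.SpecD4Two

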