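/-!
Tables for the group ³D₄(2) in its natural representation over the field with eight elements
(generators, words of the Borel subgroup, double coset data).
-/

set_option autoImplicit false

namespace CfsgLib.SpecD4Two

/-- Table `genTab`. -/
def genTab : List (List Nat) :=
  [[256, 131074, 262148, 524288, 1048592, 8192, 16384, 8421504],
   [3, 2, 204, 72, 16, 48, 64, 192],
   [513, 2, 13140036, 4210696, 16, 4128, 64, 4194432],
   [131073, 2, 4769860, 16392, 16, 1048608, 64, 4210816],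
   [1, 6, 4, 8, 16, 32, 96, 128],
   [5, 170, 4, 40, 16, 32, 80, 160],
   [1025, 11042850, 4, 2105352, 16, 32, 4160, 2097280],
   [262145, 2664482, 4, 8200, 16, 32, 1048640, 2105472],
   [153, 66, 36, 24, 16, 32, 64, 144],
   [9963537, 16386, 8196, 1048584, 16, 32, 64, 1052800],
   [9476113, 4194306, 2097156, 1052680, 16, 32, 64, 4224],
   [65, 2, 20, 8, 16, 32, 64, 128],
   [33, 18, 4, 8, 16, 32, 64, 128]]

/-- Table `genInvTab`. -/
def genInvTab : List (List Nat) :=
  [[65537, 512, 1024, 526344, 4096, 2097184, 4194368, 8388608],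
   [3, 2, 204, 72, 16, 48, 64, 192],
   [513, 2, 13140036, 4210696, 16, 4128, 64, 4194432],
   [131073, 2, 4769860, 16392, 16, 1048608, 64, 4210816],
   [1, 6, 4, 8, 16, 32, 96, 128],
   [5, 170, 4, 40, 16, 32, 80, 160],
   [1025, 11042850, 4, 2105352, 16, 32, 4160, 2097280],
   [262145, 2664482, 4, 8200, 16, 32, 1048640, 2105472],
   [153, 66, 36, 24, 16, 32, 64, 144],
   [9963537, 16386, 8196, 1048584, 16, 32, 64, 1052800],
   [9476113, 4194306, 2097156, 1052680, 16, 32, 64, 4224],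
   [65, 2, 20, 8, 16, 32, 64, 128],
   [33, 18, 4, 8, 16, 32, 64, 128]]

/-- Table `refTab`. -/
def refTab : List (List Nat) :=
  [[2, 1, 64, 128, 32, 16, 4, 8],
   [1, 4, 2, 8, 16, 64, 32, 128]]

/-- Table `wordTab`. -/
def wordTab : List (List (Fin 2)) :=
  [[], [0], [1], [0, 1], [1, 0], [0, 1, 0], [1, 0, 1], [0, 1, 0, 1], [1, 0, 1, 0], [0, 1, 0, 1, 0], [1, 0, 1, 0, 1], [0, 1, 0, 1, 0, 1]]

/-- Table `splitTab`. -/
def splitTab : List (List (List (Nat × Nat))) :=
  [[[(1, 0), (2, 0), (3, 0), (4, 0), (5, 0), (6, 0), (0, 0)],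
    [(0, 8), (1, 56), (2, 24), (3, 16), (4, 40), (5, 48), (6, 32)],
    [(0, 16), (1, 40), (2, 48), (3, 32), (4, 8), (5, 56), (6, 24)],
    [(0, 32), (1, 8), (2, 56), (3, 24), (4, 16), (5, 40), (6, 48)],
    [(0, 64), (1, 64), (2, 64), (3, 64), (4, 64), (5, 64), (6, 64)],
    [(0, 128), (1, 896), (2, 384), (3, 256), (4, 640), (5, 768), (6, 512)],
    [(0, 256), (1, 640), (2, 768), (3, 512), (4, 128), (5, 896), (6, 384)],
    [(0, 512), (1, 128), (2, 896), (3, 384), (4, 256), (5, 640), (6, 768)],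
    [(0, 1024), (1, 4096), (2, 6144), (3, 5120), (4, 2048), (5, 3072), (6, 7168)],
    [(0, 2048), (1, 3072), (2, 7168), (3, 1024), (4, 4096), (5, 6144), (6, 5120)],
    [(0, 4096), (1, 6144), (2, 5120), (3, 2048), (4, 3072), (5, 7168), (6, 1024)],
    [(0, 8192), (1, 8192), (2, 8192), (3, 8192), (4, 8192), (5, 8192), (6, 8192)],
    [(0, 16384), (1, 16384), (2, 16384), (3, 16384), (4, 16384), (5, 16384), (6, 16384)],
    [(6, 0), (0, 0), (1, 0), (2, 0), (3, 0), (4, 0), (5, 0)],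
    [(0, 8), (1, 56), (2, 24), (3, 16), (4, 40), (5, 48), (6, 32)],
    [(0, 16), (1, 40), (2, 48), (3, 32), (4, 8), (5, 56), (6, 24)],
    [(0, 32), (1, 8), (2, 56), (3, 24), (4, 16), (5, 40), (6, 48)],
    [(0, 64), (1, 64), (2, 64), (3, 64), (4, 64), (5, 64), (6, 64)],
    [(0, 128), (1, 896), (2, 384), (3, 256), (4, 640), (5, 768), (6, 512)],
    [(0, 256), (1, 640), (2, 768), (3, 512), (4, 128), (5, 896), (6, 384)],
    [(0, 512), (1, 128), (2, 896), (3, 384), (4, 256), (5, 640), (6, 768)],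
    [(0, 1024), (1, 4096), (2, 6144), (3, 5120), (4, 2048), (5, 3072), (6, 7168)],
    [(0, 2048), (1, 3072), (2, 7168), (3, 1024), (4, 4096), (5, 6144), (6, 5120)],
    [(0, 4096), (1, 6144), (2, 5120), (3, 2048), (4, 3072), (5, 7168), (6, 1024)],
    [(0, 8192), (1, 8192), (2, 8192), (3, 8192), (4, 8192), (5, 8192), (6, 8192)],
    [(0, 16384), (1, 16384), (2, 16384), (3, 16384), (4, 16384), (5, 16384), (6, 16384)]],
   [[],
    [(1, 0), (0, 0), (3, 0), (2, 0), (5, 0), (4, 0), (7, 0), (6, 0)],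
    [(2, 0), (3, 0), (0, 0), (1, 0), (6, 0), (7, 0), (4, 0), (5, 0)],
    [(4, 0), (5, 0), (6, 0), (7, 0), (0, 0), (1, 0), (2, 0), (3, 0)],
    [(0, 64), (1, 25792), (2, 30016), (3, 31168), (4, 32320), (5, 27328), (6, 28480), (7, 29632)],
    [(0, 128), (1, 24704), (2, 10368), (3, 18560), (4, 12416), (5, 20608), (6, 14464), (7, 22656)],
    [(0, 256), (1, 18688), (2, 24832), (3, 10496), (4, 9472), (5, 19712), (6, 17664), (7, 11520)],
    [(0, 512), (1, 20992), (2, 17920), (3, 13824), (4, 25088), (5, 12800), (6, 9728), (7, 22016)],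
    [(0, 1024), (1, 9216), (2, 1024), (3, 9216), (4, 1024), (5, 9216), (6, 1024), (7, 9216)],
    [(0, 2048), (1, 2048), (2, 2048), (3, 2048), (4, 10240), (5, 10240), (6, 10240), (7, 10240)],
    [(0, 4096), (1, 4096), (2, 12288), (3, 12288), (4, 4096), (5, 4096), (6, 12288), (7, 12288)],
    [(0, 8192), (1, 8192), (2, 8192), (3, 8192), (4, 8192), (5, 8192), (6, 8192), (7, 8192)],
    [(0, 16384), (1, 16384), (2, 16384), (3, 16384), (4, 16384), (5, 16384), (6, 16384), (7, 16384)],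
    [],
    [(1, 0), (0, 0), (3, 0), (2, 0), (5, 0), (4, 0), (7, 0), (6, 0)],
    [(2, 0), (3, 0), (0, 0), (1, 0), (6, 0), (7, 0), (4, 0), (5, 0)],
    [(4, 0), (5, 0), (6, 0), (7, 0), (0, 0), (1, 0), (2, 0), (3, 0)],
    [(0, 64), (1, 25792), (2, 30016), (3, 31168), (4, 32320), (5, 27328), (6, 28480), (7, 29632)],
    [(0, 128), (1, 24704), (2, 10368), (3, 18560), (4, 12416), (5, 20608), (6, 14464), (7, 22656)],
    [(0, 256), (1, 18688), (2, 24832), (3, 10496), (4, 9472), (5, 19712), (6, 17664), (7, 11520)],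
    [(0, 512), (1, 20992), (2, 17920), (3, 13824), (4, 25088), (5, 12800), (6, 9728), (7, 22016)],
    [(0, 1024), (1, 9216), (2, 1024), (3, 9216), (4, 1024), (5, 9216), (6, 1024), (7, 9216)],
    [(0, 2048), (1, 2048), (2, 2048), (3, 2048), (4, 10240), (5, 10240), (6, 10240), (7, 10240)],
    [(0, 4096), (1, 4096), (2, 12288), (3, 12288), (4, 4096), (5, 4096), (6, 12288), (7, 12288)],
    [(0, 8192), (1, 8192), (2, 8192), (3, 8192), (4, 8192), (5, 8192), (6, 8192), (7, 8192)],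
    [(0, 16384), (1, 16384), (2, 16384), (3, 16384), (4, 16384), (5, 16384), (6, 16384), (7, 16384)]],
   [[],
    [],
    [],
    [],
    [(1, 0), (0, 0)],
    [(0, 128), (1, 128)],
    [(0, 256), (1, 256)],
    [(0, 512), (1, 512)],
    [(0, 1024), (1, 1024)],
    [(0, 2048), (1, 2048)],
    [(0, 4096), (1, 4096)],
    [(0, 8192), (1, 24576)],
    [(0, 16384), (1, 16384)],
    [],
    [],
    [],
    [],
    [(1, 0), (0, 0)],
    [(0, 128), (1, 128)],
    [(0, 256), (1, 256)],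
    [(0, 512), (1, 512)],
    [(0, 1024), (1, 1024)],
    [(0, 2048), (1, 2048)],
    [(0, 4096), (1, 4096)],
    [(0, 8192), (1, 24576)],
    [(0, 16384), (1, 16384)]],
   [[],
    [],
    [],
    [],
    [],
    [(1, 0), (0, 0), (3, 0), (2, 0), (5, 0), (4, 0), (7, 0), (6, 0)],
    [(2, 0), (3, 0), (0, 0), (1, 0), (6, 0), (7, 0), (4, 0), (5, 0)],
    [(4, 0), (5, 0), (6, 0), (7, 0), (0, 0), (1, 0), (2, 0), (3, 0)],
    [(0, 1024), (1, 17408), (2, 1024), (3, 17408), (4, 1024), (5, 17408), (6, 1024), (7, 17408)],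
    [(0, 2048), (1, 2048), (2, 2048), (3, 2048), (4, 18432), (5, 18432), (6, 18432), (7, 18432)],
    [(0, 4096), (1, 4096), (2, 20480), (3, 20480), (4, 4096), (5, 4096), (6, 20480), (7, 20480)],
    [(0, 8192), (1, 8192), (2, 8192), (3, 8192), (4, 8192), (5, 8192), (6, 8192), (7, 8192)],
    [(0, 16384), (1, 16384), (2, 16384), (3, 16384), (4, 16384), (5, 16384), (6, 16384), (7, 16384)],
    [],
    [],
    [],
    [],
    [],
    [(1, 0), (0, 0), (3, 0), (2, 0), (5, 0), (4, 0), (7, 0), (6, 0)],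
    [(2, 0), (3, 0), (0, 0), (1, 0), (6, 0), (7, 0), (4, 0), (5, 0)],
    [(4, 0), (5, 0), (6, 0), (7, 0), (0, 0), (1, 0), (2, 0), (3, 0)],
    [(0, 1024), (1, 17408), (2, 1024), (3, 17408), (4, 1024), (5, 17408), (6, 1024), (7, 17408)],
    [(0, 2048), (1, 2048), (2, 2048), (3, 2048), (4, 18432), (5, 18432), (6, 18432), (7, 18432)],
    [(0, 4096), (1, 4096), (2, 20480), (3, 20480), (4, 4096), (5, 4096), (6, 20480), (7, 20480)],
    [(0, 8192), (1, 8192), (2, 8192), (3, 8192), (4, 8192), (5, 8192), (6, 8192), (7, 8192)],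
    [(0, 16384), (1, 16384), (2, 16384), (3, 16384), (4, 16384), (5, 16384), (6, 16384), (7, 16384)]],
   [[],
    [],
    [],
    [],
    [],
    [],
    [],
    [],
    [(1, 0), (0, 0), (3, 0), (2, 0), (5, 0), (4, 0), (7, 0), (6, 0)],
    [(2, 0), (3, 0), (0, 0), (1, 0), (6, 0), (7, 0), (4, 0), (5, 0)],
    [(4, 0), (5, 0), (6, 0), (7, 0), (0, 0), (1, 0), (2, 0), (3, 0)],
    [(0, 8192), (1, 8192), (2, 8192), (3, 8192), (4, 8192), (5, 8192), (6, 8192), (7, 8192)],
    [(0, 16384), (1, 16384), (2, 16384), (3, 16384), (4, 16384), (5, 16384), (6, 16384), (7, 16384)],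
    [],
    [],
    [],
    [],
    [],
    [],
    [],
    [],
    [(1, 0), (0, 0), (3, 0), (2, 0), (5, 0), (4, 0), (7, 0), (6, 0)],
    [(2, 0), (3, 0), (0, 0), (1, 0), (6, 0), (7, 0), (4, 0), (5, 0)],
    [(4, 0), (5, 0), (6, 0), (7, 0), (0, 0), (1, 0), (2, 0), (3, 0)],
    [(0, 8192), (1, 8192), (2, 8192), (3, 8192), (4, 8192), (5, 8192), (6, 8192), (7, 8192)],
    [(0, 16384), (1, 16384), (2, 16384), (3, 16384), (4, 16384), (5, 16384), (6, 16384), (7, 16384)]],
   [[],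
    [],
    [],
    [],
    [],
    [],
    [],
    [],
    [],
    [],
    [],
    [(1, 0), (0, 0)],
    [(0, 16384), (1, 16384)],
    [],
    [],
    [],
    [],
    [],
    [],
    [],
    [],
    [],
    [],
    [],
    [(1, 0), (0, 0)],
    [(0, 16384), (1, 16384)]],
   [[],
    [],
    [],
    [],
    [],
    [],
    [],
    [],
    [],
    [],
    [],
    [],
    [(1, 0), (0, 0)],
    [],
    [],
    [],
    [],
    [],
    [],
    [],
    [],
    [],
    [],
    [],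
    [],
    [(1, 0), (0, 0)]]]

/-- Table `normTab`. -/
def normTab : List (List Nat) :=
  [[1, 32, 24, 48, 64, 512, 384, 768, 7168, 5120, 1024, 8192, 16384],
   [49, 8, 16, 32, 25792, 24704, 18688, 20992, 9216, 2048, 4096, 8192, 16384],
   [57, 8, 16, 32, 30016, 10368, 24832, 17920, 1024, 2048, 12288, 8192, 16384],
   [41, 8, 16, 32, 32320, 12416, 9472, 25088, 1024, 10240, 4096, 8192, 16384],
   [1, 9352, 13584, 15904, 64, 128, 256, 512, 1024, 2048, 4096, 24576, 16384],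
   [769, 24584, 10256, 12320, 64, 128, 256, 512, 17408, 2048, 4096, 8192, 16384],
   [897, 18440, 24592, 9248, 64, 128, 256, 512, 1024, 2048, 20480, 8192, 16384],
   [641, 20488, 17424, 24608, 64, 128, 256, 512, 1024, 18432, 4096, 8192, 16384],
   [5121, 8200, 16, 32, 64, 16512, 256, 512, 1024, 2048, 4096, 8192, 16384],
   [1025, 8, 16, 8224, 64, 128, 256, 16896, 1024, 2048, 4096, 8192, 16384],
   [2049, 8, 8208, 32, 64, 128, 16640, 512, 1024, 2048, 4096, 8192, 16384],
   [1, 8, 16, 32, 16448, 128, 256, 512, 1024, 2048, 4096, 8192, 16384],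
   [1, 8, 16, 32, 64, 128, 256, 512, 1024, 2048, 4096, 8192, 16384],
   [1, 56, 40, 8, 64, 896, 640, 128, 4096, 3072, 6144, 8192, 16384],
   [49, 8, 16, 32, 25792, 24704, 18688, 20992, 9216, 2048, 4096, 8192, 16384],
   [57, 8, 16, 32, 30016, 10368, 24832, 17920, 1024, 2048, 12288, 8192, 16384],
   [41, 8, 16, 32, 32320, 12416, 9472, 25088, 1024, 10240, 4096, 8192, 16384],
   [1, 9352, 13584, 15904, 64, 128, 256, 512, 1024, 2048, 4096, 24576, 16384],
   [769, 24584, 10256, 12320, 64, 128, 256, 512, 17408, 2048, 4096, 8192, 16384],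
   [897, 18440, 24592, 9248, 64, 128, 256, 512, 1024, 2048, 20480, 8192, 16384],
   [641, 20488, 17424, 24608, 64, 128, 256, 512, 1024, 18432, 4096, 8192, 16384],
   [5121, 8200, 16, 32, 64, 16512, 256, 512, 1024, 2048, 4096, 8192, 16384],
   [1025, 8, 16, 8224, 64, 128, 256, 16896, 1024, 2048, 4096, 8192, 16384],
   [2049, 8, 8208, 32, 64, 128, 16640, 512, 1024, 2048, 4096, 8192, 16384],
   [1, 8, 16, 32, 16448, 128, 256, 512, 1024, 2048, 4096, 8192, 16384],
   [1, 8, 16, 32, 64, 128, 256, 512, 1024, 2048, 4096, 8192, 16384]]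

/-- Table `facTab`. -/
def facTab : List (List (List (Nat × Nat))) :=
  [[[(0, 1), (4, 1), (3, 1), (7, 1), (6, 1), (2, 1), (5, 1), (1, 1)],
    [(1, 0), (0, 0), (3, 0), (2, 0), (5, 0), (4, 0), (7, 0), (6, 0)],
    [(2, 0), (3, 0), (0, 0), (1, 0), (6, 0), (7, 0), (4, 0), (5, 0)],
    [(4, 0), (5, 0), (6, 0), (7, 0), (0, 0), (1, 0), (2, 0), (3, 0)],
    [(0, 64), (1, 25792), (2, 30016), (3, 31168), (4, 32320), (5, 27328), (6, 28480), (7, 29632)],
    [(0, 128), (1, 24704), (2, 10368), (3, 18560), (4, 12416), (5, 20608), (6, 14464), (7, 22656)],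
    [(0, 256), (1, 18688), (2, 24832), (3, 10496), (4, 9472), (5, 19712), (6, 17664), (7, 11520)],
    [(0, 512), (1, 20992), (2, 17920), (3, 13824), (4, 25088), (5, 12800), (6, 9728), (7, 22016)],
    [(0, 1024), (1, 9216), (2, 1024), (3, 9216), (4, 1024), (5, 9216), (6, 1024), (7, 9216)],
    [(0, 2048), (1, 2048), (2, 2048), (3, 2048), (4, 10240), (5, 10240), (6, 10240), (7, 10240)],
    [(0, 4096), (1, 4096), (2, 12288), (3, 12288), (4, 4096), (5, 4096), (6, 12288), (7, 12288)],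
    [(0, 8192), (1, 8192), (2, 8192), (3, 8192), (4, 8192), (5, 8192), (6, 8192), (7, 8192)],
    [(0, 16384), (1, 16384), (2, 16384), (3, 16384), (4, 16384), (5, 16384), (6, 16384), (7, 16384)],
    [(0, 6), (7, 6), (5, 6), (2, 6), (1, 6), (6, 6), (4, 6), (3, 6)],
    [(1, 0), (0, 0), (3, 0), (2, 0), (5, 0), (4, 0), (7, 0), (6, 0)],
    [(2, 0), (3, 0), (0, 0), (1, 0), (6, 0), (7, 0), (4, 0), (5, 0)],
    [(4, 0), (5, 0), (6, 0), (7, 0), (0, 0), (1, 0), (2, 0), (3, 0)],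
    [(0, 64), (1, 25792), (2, 30016), (3, 31168), (4, 32320), (5, 27328), (6, 28480), (7, 29632)],
    [(0, 128), (1, 24704), (2, 10368), (3, 18560), (4, 12416), (5, 20608), (6, 14464), (7, 22656)],
    [(0, 256), (1, 18688), (2, 24832), (3, 10496), (4, 9472), (5, 19712), (6, 17664), (7, 11520)],
    [(0, 512), (1, 20992), (2, 17920), (3, 13824), (4, 25088), (5, 12800), (6, 9728), (7, 22016)],
    [(0, 1024), (1, 9216), (2, 1024), (3, 9216), (4, 1024), (5, 9216), (6, 1024), (7, 9216)],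
    [(0, 2048), (1, 2048), (2, 2048), (3, 2048), (4, 10240), (5, 10240), (6, 10240), (7, 10240)],
    [(0, 4096), (1, 4096), (2, 12288), (3, 12288), (4, 4096), (5, 4096), (6, 12288), (7, 12288)],
    [(0, 8192), (1, 8192), (2, 8192), (3, 8192), (4, 8192), (5, 8192), (6, 8192), (7, 8192)],
    [(0, 16384), (1, 16384), (2, 16384), (3, 16384), (4, 16384), (5, 16384), (6, 16384), (7, 16384)]],
   [[(0, 1), (1, 1)],
    [(0, 8), (1, 9352)],
    [(0, 16), (1, 13584)],
    [(0, 32), (1, 15904)],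
    [(1, 0), (0, 0)],
    [(0, 128), (1, 128)],
    [(0, 256), (1, 256)],
    [(0, 512), (1, 512)],
    [(0, 1024), (1, 1024)],
    [(0, 2048), (1, 2048)],
    [(0, 4096), (1, 4096)],
    [(0, 8192), (1, 24576)],
    [(0, 16384), (1, 16384)],
    [(0, 6), (1, 6)],
    [(0, 8), (1, 9352)],
    [(0, 16), (1, 13584)],
    [(0, 32), (1, 15904)],
    [(1, 0), (0, 0)],
    [(0, 128), (1, 128)],
    [(0, 256), (1, 256)],
    [(0, 512), (1, 512)],
    [(0, 1024), (1, 1024)],
    [(0, 2048), (1, 2048)],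
    [(0, 4096), (1, 4096)],
    [(0, 8192), (1, 24576)],
    [(0, 16384), (1, 16384)]]]

/-- Table `conjTab`. -/
def conjTab : List (List Nat) :=
  [[6, 0, 0, 0, 8192, 1024, 2048, 4096, 128, 256, 512, 64, 16384],
   [1, 128, 256, 512, 0, 8, 16, 32, 1024, 2048, 4096, 16384, 8192]]

/-- Table `flipTab`. -/
def flipTab : List (List (Nat × Nat)) :=
  [[(0, 0), (8, 8), (40, 41), (48, 51), (56, 58), (16, 22), (24, 28), (32, 37)],
   [(0, 0), (64, 64)]]

/-- Table `sigTab`. -/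
def sigTab : List (List (Fin 12)) :=
  [[1, 0, 3, 2, 5, 4, 7, 6, 9, 8, 11, 10], [2, 4, 0, 6, 1, 8, 3, 10, 5, 11, 7, 9]]

/-- Table `upTab`. -/
def upTab : List (List Bool) :=
  [[true, false, true, false, true, false, true, false, true, false, true, false], [true, true, false, true, false, true, false, true, false, true, false, false]]

/-- Table `stepTab`. -/
def stepTab : List (List Nat) :=
  [[0, 0, 0, 0, 0, 0, 0, 0, 0, 0, 0, 0], [0, 0, 0, 0, 0, 0, 0, 0, 0, 0, 0, 0]]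

/-- Table `moveTab`. -/
def moveTab : List (List (List Nat)) :=
  [[[0, 8, 16, 24, 32, 40, 48, 56], [], [0, 128, 256, 384, 512, 640, 768, 896], [], [0, 1024, 2048, 3072, 4096, 5120, 6144, 7168], [], [0, 1024, 2048, 3072, 4096, 5120, 6144, 7168], [], [0, 128, 256, 384, 512, 640, 768, 896], [], [0, 8, 16, 24, 32, 40, 48, 56], []],
   [[0, 64], [0, 8192], [], [0, 16384], [], [0, 16384], [], [0, 8192], [], [0, 64], [], []]]

/-- Table `rotTab`. -/
def rotTab : List (Bool × Fin 2 × Fin 12 × Fin 12 × Fin 12 × Nat × Nat × List Nat) :=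
  [(false, 1, 4, 1, 3, 0, 0, [0, 8192]),
   (true, 0, 5, 2, 4, 0, 0, [0, 128, 256, 384, 512, 640, 768, 896]),
   (true, 1, 6, 1, 3, 0, 0, [0, 8192]),
   (false, 1, 8, 5, 7, 0, 0, [0, 16384]),
   (true, 0, 9, 6, 8, 0, 0, [0, 1024, 2048, 3072, 4096, 5120, 6144, 7168]),
   (true, 1, 10, 5, 7, 0, 0, [0, 16384])]

end CfsgLib.SpecD4Two
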