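import Cfsg.Agent.Lib.SpecD4Two.Tree
import Cfsg.Agent.Lib.SpecD4Two.Data

/-!
The tables of ³D₄(2) in its natural representation, checked.
-/

set_option autoImplicit false

namespace CfsgLib.SpecD4Two

/-- The code of a generator of the Borel subgroup. -/
def gCode (j : Fin 13) : List ℕ := genTab.getD j.val []

/-- The code of the inverse of a generator of the Borel subgroup. -/
def giCode (j : Fin 13) : List ℕ := genInvTab.getD j.val []

/-- The code of a generator or of its inverse. -/
def sCode (j : Fin 13) (s : Bool) : List ℕ := if s then giCode j else gCode j

/-- The code of a reflection. -/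
def nCode (i : Fin 2) : List ℕ := refTab.getD i.val []

/-- The code of a Weyl representative. -/
def nwCode (w : Fin 12) : List ℕ :=
  (wordTab.getD w.val []).foldl (fun A i => mm A (nCode i)) oneC

/-- The index of a signed generator in the tables. -/
def sIdx (j : Fin 13) (s : Bool) : ℕ := j.val + if s then 13 else 0

/-- The word code. -/
abbrev wC (c : ℕ) : List ℕ := wordC gCode c

/-- The root subgroup words of a reflection. -/
def ucodes (i : Fin 2) : List ℕ := if i = 0 then [0, 8, 16, 24, 32, 40, 48, 56] else [0, 64]

/-- The generators of the complement of a root subgroup. -/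
def inRPos (i : Fin 2) (j : Fin 13) : Bool :=
  if i = 0 then !(decide (3 ≤ gpos j) && decide (gpos j ≤ 5)) else gpos j != 6

/-- A word in the complement of a root subgroup. -/
def inR (i : Fin 2) (c : ℕ) : Bool := (letters c).all (inRPos i)

/-- All signed generators satisfy the predicate. -/
def allGen (f : Fin 13 → Bool → Bool) : Bool :=
  (List.finRange 13).all fun j => f j false && f j true

def pairsB : Bool :=
  ((List.finRange 13).all fun j => pairOK (gCode j) (giCode j)) &&
    pairOK (nCode 0) (nCode 0) && pairOK (nCode 1) (nCode 1)

def splitB : Bool :=
  (List.range 7).all fun L => decide (0 < (reps L).length) && (reps L).getD 0 0 == 0 &&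
    allGen fun j s => decide (gpos j < cut L) ||
      (List.range (reps L).length).all fun y =>
        let e := ((splitTab.getD L []).getD (sIdx j s) []).getD y (0, 0)
        decide (e.1 < (reps L).length) && inLev (L + 1) e.2 &&
          mm (sCode j s) (wC ((reps L).getD y 0)) == mm (wC ((reps L).getD e.1 0)) (wC e.2)

def normB : Bool :=
  allGen fun j s => (List.finRange 13).all fun k =>
    let m := (normTab.getD (sIdx j s) []).getD k.val 0
    ((List.range 8).all fun L => decide (gpos k < cut L) || inLev L m) &&
      mm (sCode j s) (gCode k) == mm (wC m) (sCode j s)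

def facB : Bool :=
  (List.finRange 2).all fun i => (ucodes i).getD 0 0 == 0 && allGen fun j s =>
    (List.range (ucodes i).length).all fun y =>
      let e := ((facTab.getD i.val []).getD (sIdx j s) []).getD y (0, 0)
      decide (e.1 < (ucodes i).length) && inR i e.2 &&
        mm (sCode j s) (wC ((ucodes i).getD y 0)) == mm (wC ((ucodes i).getD e.1 0)) (wC e.2)

def conjB : Bool :=
  (List.finRange 2).all fun i => (List.finRange 13).all fun j => !inRPos i j ||
    let c := (conjTab.getD i.val []).getD j.val 0
    inR i c && mm (mm (nCode i) (gCode j)) (nCode i) == wC c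

def flipB : Bool :=
  (List.finRange 2).all fun i => (List.range (ucodes i).length).all fun y => y == 0 ||
    let e := (flipTab.getD i.val []).getD y (0, 0)
    mm (mm (nCode i) (wC ((ucodes i).getD y 0))) (nCode i) == mm (mm (wC e.1) (nCode i)) (wC e.2)

/-- The action of a reflection on the double cosets. -/
def sig (i : Fin 2) (w : Fin 12) : Fin 12 := (sigTab.getD i.val []).getD w.val 0

/-- The length grows. -/
def upw (i : Fin 2) (w : Fin 12) : Bool := (upTab.getD i.val []).getD w.val false

def casesB : Bool :=
  (List.finRange 2).all fun i => (List.finRange 12).all fun w =>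
    upw i w || (upw i (sig i w) && sig i (sig i w) == w)

def stepB : Bool :=
  (List.finRange 2).all fun i => (List.finRange 12).all fun w => !upw i w ||
    mm (nCode i) (nwCode w) == mm (nwCode (sig i w)) (wC ((stepTab.getD i.val []).getD w.val 0))

def moveB : Bool :=
  (List.finRange 2).all fun i => (List.finRange 12).all fun w => !upw i w ||
    (List.range (ucodes i).length).all fun y =>
      mm (wC ((ucodes i).getD y 0)) (nwCode w) ==
        mm (nwCode w) (wC (((moveTab.getD i.val []).getD w.val []).getD y 0))

def rotB : Bool :=
  rotTab.all fun r => match r with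
    | (s, i, w, v, v', d, e, mv) =>
      (nwCode w == if s then mm (mm (mm (nCode i) (nwCode v)) (nCode i)) (wC d)
        else mm (mm (nCode i) (nwCode v)) (wC d)) &&
      mm (nwCode v) (nCode i) == mm (nwCode v') (wC e) &&
      (List.range (ucodes i).length).all fun y =>
        mm (nwCode v) (wC ((ucodes i).getD y 0)) == mm (wC (mv.getD y 0)) (nwCode v)

theorem pairs_ok : pairsB = true := by decide +kernel
theorem split_ok : splitB = true := by decide +kernel
theorem norm_ok : normB = true := by decide +kernel
theorem fac_ok : facB = true := by decide +kernel
theorem conj_ok : conjB = true := by decide +kernel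
theorem flip_ok : flipB = true := by decide +kernel
theorem cases_ok : casesB = true := by decide +kernel
theorem step_ok : stepB = true := by decide +kernel
theorem move_ok : moveB = true := by decide +kernel
theorem rot_ok : rotB = true := by decide +kernel

/-- A node is checked when its links and, separately, its other children are. -/
theorem chk_node {gC : Fin 13 → List ℕ} {f : ℕ} {A : List ℕ} {cs : List Cert}
    (h : nodeOK gC (6 - f) (fun _ _ => true) A cs = true)
    (hc : ∀ j < cs.length, isExp (cs.getD j (.ord 0)) = true →
      chk gC f (mm A (wordC gC ((reps (6 - f)).getD j 0))) (cs.getD j (.ord 0)) = true) :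
    chk gC (f + 1) A (.node cs) = true := by
  rw [Cert.node, chk, Cert.kids_foldr]
  simp only [nodeOK, Bool.and_eq_true, List.all_eq_true, List.mem_range] at h ⊢
  refine ⟨h.1, fun j hj => ?_⟩
  have h1 := h.2 j hj
  have h2 := hc j hj
  revert h1 h2
  generalize cs.getD j (.ord 0) = e
  cases e <;> simp [isExp]

end CfsgLib.SpecD4Two

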