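import Mathlib.Algebra.CharP.Two
import Mathlib.Data.Matrix.Mul
import Mathlib.Data.Fintype.BigOperators
import Mathlib.Data.Nat.Bitwise
import Mathlib.Tactic.LinearCombination
import Mathlib.Tactic.Group
import Mathlib.Tactic.IntervalCases
import Mathlib.Tactic.FinCases
import Mathlib.GroupTheory.OrderOfElement
import Mathlib.LinearAlgebra.Matrix.CharP
import Mathlib.Algebra.Ring.GeomSum

/-!
Matrices of degree eight over a field containing a root of `X³ + X + 1`, coded by lists of eight
rows, each row a number of 24 bits holding three bit planes.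
-/

set_option autoImplicit false

namespace CfsgLib.SpecD4Two

/-- Multiplication of a row code by the root. -/
def mulW (r : ℕ) : ℕ :=
  ((r >>> 16) &&& 255) ||| (((r ^^^ (r >>> 16)) &&& 255) <<< 8) ||| (((r >>> 8) &&& 255) <<< 16)

/-- A row code times a bit. -/
def bitv (r k b : ℕ) : ℕ := ((r >>> k) &&& 1) * b

/-- A row times a matrix. -/
def rowMul : ℕ → List ℕ → ℕ
  | _, [] => 0
  | r, b :: bs =>
    bitv r 0 b ^^^ bitv r 8 (mulW b) ^^^ bitv r 16 (mulW (mulW b)) ^^^ rowMul (r >>> 1) bs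

/-- The product of two coded matrices. -/
def mm (A B : List ℕ) : List ℕ := A.map fun r => rowMul r B

/-- The coded identity. -/
def oneC : List ℕ := [1, 2, 4, 8, 16, 32, 64, 128]

/-- The coded sum. -/
def addC (A B : List ℕ) : List ℕ := List.zipWith (· ^^^ ·) A B

theorem mm_length (A B : List ℕ) : (mm A B).length = A.length := List.length_map _

theorem addC_length {A B : List ℕ} (hA : A.length = 8) (hB : B.length = 8) :
    (addC A B).length = 8 := by simp [addC, List.length_zipWith, hA, hB]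

variable {K : Type*} [Field K] (ω : K)

/-- The field element of a bit. -/
def bval (b : Bool) : K := if b then 1 else 0

/-- An entry of a row code. -/
def ent (r j : ℕ) : K :=
  bval (r.testBit j) + ω * bval (r.testBit (8 + j)) + ω ^ 2 * bval (r.testBit (16 + j))

/-- The matrix of a code. -/
def dec (A : List ℕ) : Matrix (Fin 8) (Fin 8) K := Matrix.of fun i j => ent ω (A.getD i 0) j

theorem ent_zero (j : ℕ) : ent ω 0 j = 0 := by simp [ent, bval]

variable [CharP K 2]

theorem bval_xor (a b : Bool) : (bval (a ^^ b) : K) = bval a + bval b := by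
  cases a <;> cases b <;> simp [bval, CharTwo.add_self_eq_zero]

theorem ent_xor (r s j : ℕ) : ent ω (r ^^^ s) j = ent ω r j + ent ω s j := by
  simp only [ent, Nat.testBit_xor, bval_xor]; ring

omit [CharP K 2] in
theorem ent_bitv (r k b j : ℕ) : ent ω (bitv r k b) j = bval (r.testBit k) * ent ω b j := by
  have h : (r >>> k) &&& 1 = (r.testBit k).toNat := by
    rw [Nat.and_one_is_mod, Nat.shiftRight_eq_div_pow, Nat.toNat_testBit]
  rw [bitv, h]
  cases r.testBit k <;> simp [bval, ent]

theorem ent_mulW (hω : ω ^ 3 = ω + 1) (r : ℕ) {j : ℕ} (hj : j < 8) :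
    ent ω (mulW r) j = ω * ent ω r j := by
  have h255 : ∀ i, (255 : ℕ).testBit i = decide (i < 8) := fun i =>
    Nat.testBit_two_pow_sub_one 8 i
  have e0 : (mulW r).testBit j = r.testBit (16 + j) := by
    simp only [mulW, Nat.testBit_or, Nat.testBit_shiftLeft, Nat.testBit_and, Nat.testBit_shiftRight,
      h255]
    simp [hj, show ¬ 8 ≤ j by omega, show ¬ 16 ≤ j by omega]
  have e1 : (mulW r).testBit (8 + j) = (r.testBit j ^^ r.testBit (16 + j)) := by
    simp only [mulW, Nat.testBit_or, Nat.testBit_shiftLeft, Nat.testBit_and, Nat.testBit_shiftRight,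
      Nat.testBit_xor, h255]
    simp [hj, show ¬ 16 ≤ 8 + j by omega]
  have e2 : (mulW r).testBit (16 + j) = r.testBit (8 + j) := by
    simp only [mulW, Nat.testBit_or, Nat.testBit_shiftLeft, Nat.testBit_and, Nat.testBit_shiftRight,
      Nat.testBit_xor, h255]
    simp [hj, show 16 + j - 8 = 8 + j by omega, show ¬ 16 + j < 8 by omega]
  simp only [ent, e0, e1, e2, bval_xor]
  linear_combination -(bval (r.testBit (16 + j))) * hω

theorem ent_rowMul (hω : ω ^ 3 = ω + 1) {j : ℕ} (hj : j < 8) :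
    ∀ (B : List ℕ) (r : ℕ), ent ω (rowMul r B) j =
      ∑ k ∈ Finset.range B.length, ent ω r k * ent ω (B.getD k 0) j
  | [], r => by simp [rowMul, ent_zero]
  | b :: bs, r => by
    simp only [rowMul, ent_xor, ent_bitv, ent_mulW ω hω _ hj]
    rw [ent_rowMul hω hj bs, List.length_cons, Finset.sum_range_succ']
    have hs : ∀ k, ent ω (r >>> 1) k = ent ω r (k + 1) := fun k => by
      simp only [ent, Nat.testBit_shiftRight, ← add_assoc, add_comm 1 (8 : ℕ), add_comm 1 (16 : ℕ),
        add_comm 1 k]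
      ring_nf
    simp only [hs, List.getD_cons_succ, List.getD_cons_zero]
    simp only [ent, Nat.add_zero]
    ring

theorem dec_mm (hω : ω ^ 3 = ω + 1) {A B : List ℕ} (hA : A.length = 8) (hB : B.length = 8) :
    dec ω (mm A B) = dec ω A * dec ω B := by
  ext i j
  rw [Matrix.mul_apply]
  show ent ω ((mm A B).getD i 0) j = ∑ k : Fin 8, ent ω (A.getD i 0) k * ent ω (B.getD k 0) j
  rw [show (mm A B).getD i 0 = rowMul (A.getD i 0) B by
      simp [mm, List.getD_eq_getElem?_getD, hA],
    ent_rowMul ω hω j.isLt, hB, ← Fin.sum_univ_eq_sum_range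
      (fun k => ent ω (A.getD i 0) k * ent ω (B.getD k 0) j) 8]

omit [CharP K 2] in
theorem dec_oneC : dec ω oneC = 1 := by
  ext i j
  fin_cases i <;> fin_cases j <;> simp [dec, oneC, ent, bval, Nat.testBit, Nat.shiftRight_eq_div_pow]

theorem dec_addC {A B : List ℕ} (hA : A.length = 8) (hB : B.length = 8) :
    dec ω (addC A B) = dec ω A + dec ω B := by
  ext i j
  show ent ω ((addC A B).getD i 0) j = ent ω (A.getD i 0) j + ent ω (B.getD i 0) j
  rw [← ent_xor]
  simp [addC, List.getD_eq_getElem?_getD, hA, hB]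

/-- A coded matrix with a coded two-sided inverse. -/
def pairOK (A B : List ℕ) : Bool :=
  A.length == 8 && B.length == 8 && mm A B == oneC && mm B A == oneC

/-- The unit of a checked pair. -/
noncomputable def unitC (hω : ω ^ 3 = ω + 1) (A B : List ℕ) (h : pairOK A B = true) :
    (Matrix (Fin 8) (Fin 8) K)ˣ where
  val := dec ω A
  inv := dec ω B
  val_inv := by
    simp only [pairOK, Bool.and_eq_true, beq_iff_eq] at h
    rw [← dec_mm ω hω h.1.1.1 h.1.1.2, h.1.2, dec_oneC]
  inv_val := by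
    simp only [pairOK, Bool.and_eq_true, beq_iff_eq] at h
    rw [← dec_mm ω hω h.1.1.2 h.1.1.1, h.2, dec_oneC]

/-- A unit with its code. -/
def Enc (g : (Matrix (Fin 8) (Fin 8) K)ˣ) (A : List ℕ) : Prop :=
  A.length = 8 ∧ (g : Matrix (Fin 8) (Fin 8) K) = dec ω A

omit [CharP K 2] in
theorem enc_one : Enc ω 1 oneC := ⟨rfl, (dec_oneC ω).symm⟩

theorem Enc.mul (hω : ω ^ 3 = ω + 1) {g h : (Matrix (Fin 8) (Fin 8) K)ˣ} {A B : List ℕ}
    (ha : Enc ω g A) (hb : Enc ω h B) : Enc ω (g * h) (mm A B) :=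
  ⟨(mm_length A B).trans ha.1, by rw [Units.val_mul, ha.2, hb.2, dec_mm ω hω ha.1 hb.1]⟩

omit [CharP K 2] in
theorem Enc.ext {g h : (Matrix (Fin 8) (Fin 8) K)ˣ} {A B : List ℕ} (ha : Enc ω g A)
    (hb : Enc ω h B) (e : A = B) : g = h := Units.ext (by rw [ha.2, hb.2, e])

theorem enc_unitC (hω : ω ^ 3 = ω + 1) (A B : List ℕ) (h : pairOK A B = true) :
    Enc ω (unitC ω hω A B h) A ∧ Enc ω (unitC ω hω A B h)⁻¹ B := by
  have h' := h
  simp only [pairOK, Bool.and_eq_true, beq_iff_eq] at h'
  exact ⟨⟨h'.1.1.1, rfl⟩, ⟨h'.1.1.2, rfl⟩⟩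

end CfsgLib.SpecD4Two
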