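import Cfsg.Agent.Lib.SpecD4Two.Cells
import Cfsg.Agent.Lib.SpecD4Two.Cert0
import Cfsg.Agent.Lib.SpecD4Two.Cert1
import Cfsg.Agent.Lib.SpecD4Two.Cert2
import Cfsg.Agent.Lib.SpecD4Two.Cert3
import Cfsg.Agent.Lib.SpecD4Two.Cert7
import Cfsg.Agent.Lib.SpecD4Two.Cert11

/-!
In the natural group ³D₄(2) on eight-dimensional space over the field with eight elements, an
element has order 1, 2, 3, 4, 6 or 7 or its norm map vanishes.
-/

set_option autoImplicit false
set_option linter.unusedSectionVars false

namespace CfsgLib.SpecD4Two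

variable {K : Type*} [Field K] [CharP K 2] {ω : K} (hω : ω ^ 3 = ω + 1)

theorem pairs_spec : (∀ j, pairOK (gCode j) (giCode j) = true) ∧
    ∀ i, pairOK (nCode i) (nCode i) = true := by
  have h := pairs_ok
  simp only [pairsB, Bool.and_eq_true, List.all_eq_true, List.mem_finRange, true_implies] at h
  refine ⟨h.1.1, fun i => ?_⟩
  fin_cases i
  exacts [h.1.2, h.2]

/-- The generators of the Borel subgroup. -/
noncomputable def gU (j : Fin 13) : Mat8 K := unitC ω hω _ _ (pairs_spec.1 j)

/-- The reflections. -/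
noncomputable def nU (i : Fin 2) : Mat8 K := unitC ω hω _ _ (pairs_spec.2 i)

/-- The Weyl representatives. -/
noncomputable def nwU (w : Fin 12) : Mat8 K := ((wordTab.getD w.val []).map (nU hω)).prod

/-- The natural group ³D₄(2). -/
noncomputable def natGroup : Subgroup (Mat8 K) :=
  lev (gU hω) 0 ⊔ Subgroup.closure (Set.range (nU hω))

theorem gU_enc (j : Fin 13) : Enc ω (gU hω j) (gCode j) := (enc_unitC ω hω _ _ _).1

theorem sU_enc (j : Fin 13) (s : Bool) :
    Enc ω (if s then (gU hω j)⁻¹ else gU hω j) (sCode j s) := by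
  cases s
  · exact gU_enc hω j
  · exact (enc_unitC ω hω _ _ _).2

theorem nU_enc (i : Fin 2) : Enc ω (nU hω i) (nCode i) := (enc_unitC ω hω _ _ _).1

theorem nwU_enc (w : Fin 12) : Enc ω (nwU hω w) (nwCode w) := by
  have : ∀ (l : List (Fin 2)) (x : Mat8 K) (X : List ℕ), Enc ω x X →
      Enc ω (x * (l.map (nU hω)).prod) (l.foldl (fun A i => mm A (nCode i)) X) := by
    intro l
    induction l with
    | nil => intro x X h; simpa using h
    | cons j l ih =>
      intro x X h
      rw [List.map_cons, List.prod_cons, ← mul_assoc]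
      exact ih _ _ (h.mul ω hω (nU_enc hω j))
  simpa [nwU, nwCode] using this (wordTab.getD w.val []) 1 oneC (enc_one ω)

theorem wU_enc (c : ℕ) : Enc ω (wordU (gU hω) c) (wC c) := wordC_enc hω (gU_enc hω) c

theorem wordU_zero : wordU (gU hω) 0 = 1 := by
  simp [wordU, letters]

theorem allGen_spec {f : Fin 13 → Bool → Bool} (h : allGen f = true) (j : Fin 13) (s : Bool) :
    f j s = true := by
  simp only [allGen, List.all_eq_true, List.mem_finRange, true_implies, Bool.and_eq_true] at h
  cases s
  exacts [(h j).1, (h j).2]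

/-- Induction over a subgroup generated by some of the generators. -/
theorem closure_gen_induction {S : Set (Fin 13)} {p : Mat8 K → Prop}
    (one : p 1)
    (step : ∀ j ∈ S, ∀ s : Bool, ∀ x, p x → p ((if s then (gU hω j)⁻¹ else gU hω j) * x))
    {x : Mat8 K} (hx : x ∈ Subgroup.closure (gU hω '' S)) : p x := by
  induction hx using Subgroup.closure_induction_left with
  | one => exact one
  | mul_left g hg y _ ih => obtain ⟨j, hj, rfl⟩ := hg; exact step j hj false y ih
  | inv_mul_cancel g hg y _ ih => obtain ⟨j, hj, rfl⟩ := hg; exact step j hj true y ih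

theorem split_spec : ∀ L < 7, ∀ x ∈ lev (gU hω) L, ∃ y < (reps L).length,
    ∃ m ∈ lev (gU hω) (L + 1), x = wordU (gU hω) ((reps L).getD y 0) * m := by
  intro L hL x hx
  have h := split_ok
  simp only [splitB, List.all_eq_true, List.mem_range, Bool.and_eq_true, decide_eq_true_eq,
    beq_iff_eq] at h
  obtain ⟨⟨hpos, h0⟩, hg⟩ := h L hL
  refine closure_gen_induction hω (p := fun x => ∃ y < (reps L).length,
    ∃ m ∈ lev (gU hω) (L + 1), x = wordU (gU hω) ((reps L).getD y 0) * m)
    ⟨0, hpos, 1, one_mem _, by rw [h0, wordU_zero, one_mul]⟩ ?_ hx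
  rintro j hj s _ ⟨y, hy, m, hm, rfl⟩
  have h1 := allGen_spec hg j s
  simp only [Bool.or_eq_true, decide_eq_true_eq, List.all_eq_true, List.mem_range,
    Bool.and_eq_true, beq_iff_eq] at h1
  obtain ⟨⟨h2, h3⟩, h4⟩ := (h1.resolve_left (not_lt.2 hj)) y hy
  refine ⟨_, h2, _, mul_mem (wordU_mem_lev h3) hm, ?_⟩
  rw [← mul_assoc, ← mul_assoc]
  congr 1
  exact ((sU_enc hω j s).mul ω hω (wU_enc hω _)).ext ω ((wU_enc hω _).mul ω hω (wU_enc hω _)) h4

theorem norm_spec : ∀ L, ∀ c ∈ lev (gU hω) 0, ∀ x ∈ lev (gU hω) L,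
    c * x * c⁻¹ ∈ lev (gU hω) L := by
  intro L c hc
  refine closure_gen_induction hω
    (p := fun c => ∀ x ∈ lev (gU hω) L, c * x * c⁻¹ ∈ lev (gU hω) L) (fun x hx => by simpa using hx)
    ?_ hc
  intro j _ s c hc x hx
  set g := if s then (gU hω j)⁻¹ else gU hω j with hg
  rw [show g * c * x * (g * c)⁻¹ = g * (c * x * c⁻¹) * g⁻¹ by group]
  have hle : lev (gU hω) L ≤ (lev (gU hω) L).comap (MulAut.conj g).toMonoidHom := by
    refine (Subgroup.closure_le _).2 ?_
    rintro _ ⟨k, hk, rfl⟩
    have h := allGen_spec norm_ok j s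
    simp only [List.all_eq_true, List.mem_finRange, true_implies, List.mem_range, Bool.and_eq_true,
      Bool.or_eq_true, decide_eq_true_eq, beq_iff_eq] at h
    obtain ⟨h1, h2⟩ := h k
    have e : g * gU hω k = wordU (gU hω) _ * g :=
      ((sU_enc hω j s).mul ω hω (gU_enc hω k)).ext ω ((wU_enc hω _).mul ω hω (sU_enc hω j s)) h2
    show g * gU hω k * g⁻¹ ∈ lev (gU hω) L
    rw [e, mul_inv_cancel_right]
    by_cases hL : L < 8
    · exact wordU_mem_lev ((h1 L hL).resolve_left (not_lt.2 hk))
    · exfalso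
      have : gpos k ≤ 14 := by unfold gpos; split <;> omega
      have hc15 : cut L = 15 := by
        simp only [cut, List.getD_eq_getElem?_getD]
        rw [List.getElem?_eq_none (by simp; omega)]
        rfl
      change cut L ≤ gpos k at hk
      omega
  exact hle (hc x hx)

/-- The complement of a root subgroup. -/
noncomputable def RU (i : Fin 2) : Subgroup (Mat8 K) :=
  Subgroup.closure (gU hω '' {j | inRPos i j = true})

theorem wordU_mem_RU {i : Fin 2} {c : ℕ} (h : inR i c = true) : wordU (gU hω) c ∈ RU hω i := by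
  refine Subgroup.list_prod_mem _ fun x hx => ?_
  obtain ⟨j, hj, rfl⟩ := List.mem_map.1 hx
  exact Subgroup.subset_closure ⟨j, List.all_eq_true.1 h j hj, rfl⟩

/-- The root subgroup of a reflection. -/
def USet (i : Fin 2) : Set (Mat8 K) :=
  {u | ∃ y < (ucodes i).length, u = wordU (gU hω) ((ucodes i).getD y 0)}

/-- The double coset data. -/
noncomputable def cellData :
    CellData (lev (gU hω) 0) (nU hω) (nwU hω) sig upw (USet hω) where
  R := RU hω
  R_le i := (Subgroup.closure_mono (Set.image_mono fun j _ => Nat.zero_le _))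
  sq i := ((nU_enc hω i).mul ω hω (nU_enc hω i)).ext ω (enc_one ω) (by
    have := pairs_spec.2 i
    simp only [pairOK, Bool.and_eq_true, beq_iff_eq] at this
    exact this.2)
  factor i := by
    intro b hb
    have h := fac_ok
    simp only [facB, List.all_eq_true, List.mem_finRange, true_implies, Bool.and_eq_true,
      beq_iff_eq] at h
    obtain ⟨h0, hg⟩ := h i
    refine closure_gen_induction hω (p := fun b => ∃ u ∈ USet hω i, ∃ r ∈ RU hω i, b = u * r)
      ⟨1, ⟨0, by fin_cases i <;> decide, by rw [h0, wordU_zero]⟩, 1, one_mem _, (one_mul 1).symm⟩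
      ?_ hb
    rintro j - s _ ⟨_, ⟨y, hy, rfl⟩, r, hr, rfl⟩
    have h1 := allGen_spec hg j s
    simp only [List.all_eq_true, List.mem_range, Bool.and_eq_true, decide_eq_true_eq,
      beq_iff_eq] at h1
    obtain ⟨⟨h2, h3⟩, h4⟩ := h1 y hy
    refine ⟨_, ⟨_, h2, rfl⟩, _, mul_mem (wordU_mem_RU hω h3) hr, ?_⟩
    rw [← mul_assoc, ← mul_assoc]
    congr 1
    exact ((sU_enc hω j s).mul ω hω (wU_enc hω _)).ext ω ((wU_enc hω _).mul ω hω (wU_enc hω _)) h4
  conjR i r hr := by
    have hsq : nU hω i * nU hω i = 1 := ((nU_enc hω i).mul ω hω (nU_enc hω i)).ext ω (enc_one ω) (by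
      have := pairs_spec.2 i
      simp only [pairOK, Bool.and_eq_true, beq_iff_eq] at this
      exact this.2)
    have hinv : (nU hω i)⁻¹ = nU hω i := inv_eq_of_mul_eq_one_right hsq
    have hle : RU hω i ≤ (RU hω i).comap (MulAut.conj (nU hω i)).toMonoidHom := by
      refine (Subgroup.closure_le _).2 ?_
      rintro _ ⟨j, hj, rfl⟩
      have h := conj_ok
      simp only [conjB, List.all_eq_true, List.mem_finRange, true_implies, Bool.or_eq_true,
        Bool.and_eq_true, Bool.not_eq_true', beq_iff_eq] at h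
      change inRPos i j = true at hj
      obtain ⟨h1, h2⟩ := (h i j).resolve_left (by simp [hj])
      show nU hω i * gU hω j * (nU hω i)⁻¹ ∈ RU hω i
      rw [hinv, ((((nU_enc hω i).mul ω hω (gU_enc hω j)).mul ω hω (nU_enc hω i))).ext ω
        (wU_enc hω _) h2]
      exact wordU_mem_RU hω h1
    have h := hle hr
    rw [Subgroup.mem_comap] at h
    simpa [MulAut.conj_apply, hinv] using h
  flip := by
    rintro i _ ⟨y, hy, rfl⟩ hne
    have h := flip_ok
    simp only [flipB, List.all_eq_true, List.mem_finRange, true_implies, List.mem_range,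
      Bool.or_eq_true, beq_iff_eq] at h
    rcases h i y hy with rfl | h
    · have h' := fac_ok
      simp only [facB, List.all_eq_true, List.mem_finRange, true_implies, Bool.and_eq_true,
        beq_iff_eq] at h'
      exact absurd (by rw [(h' i).1, wordU_zero]) hne
    · exact ⟨_, cut_zero_wordU_mem _, _, cut_zero_wordU_mem _,
        (((nU_enc hω i).mul ω hω (wU_enc hω _)).mul ω hω (nU_enc hω i)).ext ω
          (((wU_enc hω _).mul ω hω (nU_enc hω i)).mul ω hω (wU_enc hω _)) h⟩
  one := by simp [nwU, wordTab]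
  cases i w := by
    have h := cases_ok
    simp only [casesB, List.all_eq_true, List.mem_finRange, true_implies, Bool.or_eq_true,
      Bool.and_eq_true, beq_iff_eq] at h
    exact h i w
  step i w hw := by
    have h := step_ok
    simp only [stepB, List.all_eq_true, List.mem_finRange, true_implies, Bool.or_eq_true,
      Bool.not_eq_true', beq_iff_eq] at h
    exact ⟨_, cut_zero_wordU_mem _, ((nU_enc hω i).mul ω hω (nwU_enc hω w)).ext ω
      ((nwU_enc hω _).mul ω hω (wU_enc hω _)) ((h i w).resolve_left (by simp [hw]))⟩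
  move i w hw := by
    rintro _ ⟨y, hy, rfl⟩
    have h := move_ok
    simp only [moveB, List.all_eq_true, List.mem_finRange, true_implies, List.mem_range,
      Bool.or_eq_true, Bool.not_eq_true', beq_iff_eq] at h
    exact ⟨_, cut_zero_wordU_mem _, ((wU_enc hω _).mul ω hω (nwU_enc hω w)).ext ω
      ((nwU_enc hω w).mul ω hω (wU_enc hω _)) ((h i w).resolve_left (by simp [hw]) y hy)⟩

/-- All elements of a double coset are small. -/
def GoodW (w : Fin 12) : Prop := CellData.GoodCell (lev (gU hω) 0) (nwU hω) Small w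

theorem good_of_cert {w : Fin 12} {e : Cert} (h : chk gCode 7 (nwCode w) e = true) : GoodW hω w :=
  CellData.goodCell_of_coset small_conj
    (chk_sound hω (gU_enc hω) (split_spec hω) (norm_spec hω) 7 le_rfl _ _ _ (nwU_enc hω w) h)

theorem good_longest : GoodW hω 11 := by
  refine CellData.goodCell_of_coset small_conj ?_
  have hs := split_spec hω
  have hnm := norm_spec hω
  refine node_sound hω (gU_enc hω) hs hnm (L := 0) (by norm_num) (nwU_enc hω 11) chk11out
    fun j hj he _ => ?_
  obtain rfl : j = 0 := by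
    by_contra hne
    revert he
    have : j < 7 := hj
    interval_cases j <;> simp_all [cert11, isExp, Cert.node]
  refine node_sound hω (gU_enc hω) hs hnm (L := 1) (by norm_num)
    ((nwU_enc hω 11).mul ω hω (wU_enc hω _)) chk11in fun y hy _ _ => ?_
  have key : ∀ e : Cert, chk gCode 5 (mm (mm (nwCode 11) (wordC gCode ((reps 0).getD 0 0)))
      (wordC gCode ((reps 1).getD y 0))) e = true →
      GoodCoset (gU hω) (1 + 1) (nwU hω 11 * wordU (gU hω) ((reps 0).getD 0 0) *
        wordU (gU hω) ((reps 1).getD y 0)) := fun e h =>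
    chk_sound hω (gU_enc hω) hs hnm 5 (by norm_num) _ _ e
      (((nwU_enc hω 11).mul ω hω (wU_enc hω _)).mul ω hω (wU_enc hω _)) h
  have : y < 8 := hy
  interval_cases y
  exacts [key _ chk11P0, key _ chk11P1, key _ chk11P2, key _ chk11P3, key _ chk11P4,
    key _ chk11P5, key _ chk11P6, key _ chk11P7]

theorem good_all : ∀ w, GoodW hω w := by
  have g0 := good_of_cert hω chk0
  have g1 := good_of_cert hω chk1
  have g2 := good_of_cert hω chk2
  have g3 := good_of_cert hω chk3
  have g7 := good_of_cert hω chk7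
  have g11 := good_longest hω
  have h := rot_ok
  simp only [rotB, List.all_eq_true] at h
  -- the data of one reduction
  have red : ∀ s i w v v' d e mv, (s, i, w, v, v', d, e, mv) ∈ rotTab →
      (s = true → GoodW hω v) → GoodW hω v' → GoodW hω w := by
    intro s i w v v' d e mv hr hv hv'
    have h1 := h _ hr
    simp only [Bool.and_eq_true, beq_iff_eq, List.all_eq_true, List.mem_range] at h1
    obtain ⟨⟨h1, h2⟩, h3⟩ := h1
    have hstep : nwU hω v * nU hω i = nwU hω v' * wordU (gU hω) e :=
      ((nwU_enc hω v).mul ω hω (nU_enc hω i)).ext ω ((nwU_enc hω v').mul ω hω (wU_enc hω e)) h2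
    have hmove : ∀ u ∈ USet hω i, ∃ b ∈ lev (gU hω) 0, nwU hω v * u = b * nwU hω v := by
      rintro _ ⟨y, hy, rfl⟩
      exact ⟨_, cut_zero_wordU_mem _, ((nwU_enc hω v).mul ω hω (wU_enc hω _)).ext ω
        ((wU_enc hω _).mul ω hω (nwU_enc hω v)) (h3 y hy)⟩
    cases s
    · exact (cellData hω).goodCell_rotate small_conj (cut_zero_wordU_mem d)
        ((nwU_enc hω w).ext ω (((nU_enc hω i).mul ω hω (nwU_enc hω v)).mul ω hω (wU_enc hω d)) h1)
        (cut_zero_wordU_mem e) hstep hmove hv'
    · exact (cellData hω).goodCell_shorten small_conj (cut_zero_wordU_mem d)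
        ((nwU_enc hω w).ext ω ((((nU_enc hω i).mul ω hω (nwU_enc hω v)).mul ω hω
          (nU_enc hω i)).mul ω hω (wU_enc hω d)) h1)
        (cut_zero_wordU_mem e) hstep hmove (hv rfl) hv'
  have g4 : GoodW hω 4 := red _ _ _ _ _ _ _ _ (List.mem_cons_self ..) (fun e => by simp at e) g3
  have g5 : GoodW hω 5 := red _ _ _ _ _ _ _ _
    (List.mem_cons_of_mem _ (List.mem_cons_self ..)) (fun _ => g2) g4
  have g6 : GoodW hω 6 := red _ _ _ _ _ _ _ _
    (List.mem_cons_of_mem _ (List.mem_cons_of_mem _ (List.mem_cons_self ..))) (fun _ => g1) g3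
  have g8 : GoodW hω 8 := red _ _ _ _ _ _ _ _ (List.mem_cons_of_mem _ (List.mem_cons_of_mem _
    (List.mem_cons_of_mem _ (List.mem_cons_self ..)))) (fun e => by simp at e) g7
  have g9 : GoodW hω 9 := red _ _ _ _ _ _ _ _ (List.mem_cons_of_mem _ (List.mem_cons_of_mem _
    (List.mem_cons_of_mem _ (List.mem_cons_of_mem _ (List.mem_cons_self ..))))) (fun _ => g6) g8
  have g10 : GoodW hω 10 := red _ _ _ _ _ _ _ _ (List.mem_cons_of_mem _ (List.mem_cons_of_mem _
    (List.mem_cons_of_mem _ (List.mem_cons_of_mem _ (List.mem_cons_of_mem _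
      (List.mem_cons_self ..)))))) (fun _ => g5) g7
  intro w
  fin_cases w
  exacts [g0, g1, g2, g3, g4, g5, g6, g7, g8, g9, g10, g11]

/-- An element has order 1, 2, 3, 4, 6 or 7, or its norm map vanishes. -/
theorem natGroup_small {x : Mat8 K} (hx : x ∈ natGroup hω) : Small x := by
  obtain ⟨w, hw⟩ := (cellData hω).exists_cell hx
  exact good_all hω w x hw

end CfsgLib.SpecD4Two
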