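import Cfsg.Agent.Lib.SpecD4Two.Group
import Cfsg.Agent.Lib.OrthIso.TypeD4
import Cfsg.Agent.Lib.ChevCover.Steinberg
import Cfsg.Agent.Lib.SimpleCount.Main
import Cfsg.Agent.Lib.RegTorus.TrialityTorus
import Cfsg.Agent.Lib.TwistedStr.StrD4

/-!
The natural representation of ³D₄(2) over the field with eight elements.
-/

set_option autoImplicit false
set_option linter.unusedSectionVars false

namespace CfsgLib.SpecD4Two

open Cfsg.Lie CfsgLib.ChevStr CfsgLib.OrthIso CfsgLib.Orth QuadraticMap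

/-- The code of a field element as an element. -/
def evC {K : Type*} [Field K] (ω : K) (c : ℕ) : K :=
  bval (c.testBit 0) + ω * bval (c.testBit 1) + ω ^ 2 * bval (c.testBit 2)

/-- The three bits of an entry. -/
def entC (r j : ℕ) : ℕ :=
  (r.testBit j).toNat + 2 * (r.testBit (8 + j)).toNat + 4 * (r.testBit (16 + j)).toNat

/-- The row code of an element in one column. -/
def putC (c p : ℕ) : ℕ :=
  (((c >>> 0) &&& 1) <<< p) ||| (((c >>> 1) &&& 1) <<< (8 + p)) ||| (((c >>> 2) &&& 1) <<< (16 + p))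

/-- The coordinate of a basis vector. -/
abbrev coordIx : Fin 4 ⊕ Fin 4 ≃ Fin 8 := finSumFinEquiv

/-- The partner of a coordinate. -/
def partner (i : Fin 8) : Fin 8 := i + 4

/-- The code of a root element. -/
def xCode (r c : ℕ) : List ℕ :=
  (List.finRange 8).map fun i =>
    2 ^ i.val ^^^ (if i = coordIx (tabD4 r).2.1 then putC c (partner (coordIx (tabD4 r).1)).val else 0)
      ^^^ (if i = coordIx (tabD4 r).1 then putC c (partner (coordIx (tabD4 r).2.1)).val else 0)

/-- The entry of a root element as a code. -/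
def xEntry (r c : ℕ) (i j : Fin 8) : ℕ :=
  (if i = j then 1 else 0) ^^^
    (if i = coordIx (tabD4 r).2.1 ∧ j = partner (coordIx (tabD4 r).1) then c else 0) ^^^
    (if i = coordIx (tabD4 r).1 ∧ j = partner (coordIx (tabD4 r).2.1) then c else 0)

def xEntryB : Bool :=
  (List.range 24).all fun r => (List.range 8).all fun c =>
    (xCode r c).length == 8 && (List.finRange 8).all fun i => (List.finRange 8).all fun j =>
      entC ((xCode r c).getD i.val 0) j.val == xEntry r c i j

theorem xEntry_ok : xEntryB = true := by decide +kernel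

def polB : Bool :=
  (List.finRange 8).all fun a => (List.finRange 8).all fun b =>
    (polD4 (finSumFinEquiv.symm a) (finSumFinEquiv.symm b) == 1) == (a == partner b) &&
      ((polD4 (finSumFinEquiv.symm a) (finSumFinEquiv.symm b) == 1) ||
        (polD4 (finSumFinEquiv.symm a) (finSumFinEquiv.symm b) == 0))

theorem pol_ok : polB = true := by decide +kernel

section entries

variable {K : Type*} [Field K] [CharP K 2] {ω : K}

theorem evC_zero : evC ω 0 = 0 := by simp [evC, bval]

theorem evC_one : evC ω 1 = 1 := by simp [evC, bval, Nat.testBit, Nat.shiftRight_eq_div_pow]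

theorem evC_xor (a b : ℕ) : evC ω (a ^^^ b) = evC ω a + evC ω b := by
  simp only [evC, Nat.testBit_xor, bval_xor]; ring

theorem ent_eq_evC (r j : ℕ) : ent ω r j = evC ω (entC r j) := by
  rw [ent, evC, entC]
  cases r.testBit j <;> cases r.testBit (8 + j) <;> cases r.testBit (16 + j) <;>
    simp [bval, Nat.testBit, Nat.shiftRight_eq_div_pow]

theorem pol_eq (a b : Fin 4 ⊕ Fin 4) :
    ((polD4 a b : ℤ) : K) = if coordIx a = partner (coordIx b) then 1 else 0 := by
  have h := pol_ok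
  simp only [polB, List.all_eq_true, List.mem_finRange, true_implies, Bool.and_eq_true,
    Bool.or_eq_true, beq_iff_eq] at h
  obtain ⟨h1, h2⟩ := h (coordIx a) (coordIx b)
  simp only [coordIx, Equiv.symm_apply_apply] at h1 h2 ⊢
  by_cases he : finSumFinEquiv a = partner (finSumFinEquiv b)
  · rw [if_pos he]
    have : polD4 a b = 1 := by simpa [he] using h1
    rw [this, Int.cast_one]
  · rw [if_neg he]
    have : polD4 a b ≠ 1 := by simpa [he] using h1
    rw [h2.resolve_left this, Int.cast_zero]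

/-- The matrix of a root element. -/
theorem xGL_apply {r : ℕ} (hr : r < chevD4.nroots) (t : K) (a b : Fin 4 ⊕ Fin 4) :
    ((((modelD4 K).X r t : O (plusQ 4 K)) : Matrix.GeneralLinearGroup (Fin 4 ⊕ Fin 4) K) :
        Matrix (Fin 4 ⊕ Fin 4) (Fin 4 ⊕ Fin 4) K) a b =
      (if coordIx a = coordIx b then 1 else 0) +
        (if coordIx a = coordIx (tabD4 r).2.1 ∧ coordIx b = partner (coordIx (tabD4 r).1) then t
          else 0) +
        (if coordIx a = coordIx (tabD4 r).1 ∧ coordIx b = partner (coordIx (tabD4 r).2.1) then t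
          else 0) := by
  set u := (tabD4 r).1 with hu
  set v := (tabD4 r).2.1 with hv
  have hinj : ∀ x y, coordIx x = coordIx y ↔ x = y := fun x y => finSumFinEquiv.injective.eq_iff
  have hη : (((tabD4 r).2.2 : ℤ) : K) = 1 := by
    rcases tabD4_sign ⟨r, hr⟩ with e | e <;> simp only at e <;> rw [e] <;> simp [CharTwo.neg_eq]
  obtain ⟨hQ, hp⟩ := (modelD4 K).row_vec hr
  have hcol : ((((modelD4 K).X r t : O (plusQ 4 K)) : Matrix.GeneralLinearGroup (Fin 4 ⊕ Fin 4) K) :
      Matrix (Fin 4 ⊕ Fin 4) (Fin 4 ⊕ Fin 4) K) a b = app ((modelD4 K).X r t) (Pi.single b 1) a := by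
    rw [app_apply, Matrix.mulVec_single_one]
    rfl
  refine hcol.trans ?_
  rw [RootModel.X, if_pos hr, app_eich hQ (hp _)]
  show ((Pi.single b 1 : Fin 4 ⊕ Fin 4 → K) +
      polar (plusQ 4 K) (Pi.single b 1) (Pi.single u 1) •
        ((((tabD4 r).2.2 : K) * t) • (Pi.single v 1 : Fin 4 ⊕ Fin 4 → K)) +
      (-(polar (plusQ 4 K) (Pi.single b 1) ((((tabD4 r).2.2 : K) * t) • (Pi.single v 1 : Fin 4 ⊕ Fin 4 → K))) -
        plusQ 4 K ((((tabD4 r).2.2 : K) * t) • (Pi.single v 1 : Fin 4 ⊕ Fin 4 → K)) *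
          polar (plusQ 4 K) (Pi.single b 1) (Pi.single u 1)) • (Pi.single u 1 : Fin 4 ⊕ Fin 4 → K)) a = _
  rw [polar_smul_right, QuadraticMap.map_smul, (frameD4 K).hqd, (frameD4 K).hpol,
    (frameD4 K).hpol, hη, one_mul]
  show (_ + ((polD4 b u : ℤ) : K) • _ + (-(t • ((polD4 b v : ℤ) : K)) -
    ((t * t) • ((0 : ℤ) : K)) * ((polD4 b u : ℤ) : K)) • _ : Fin 4 ⊕ Fin 4 → K) a = _
  simp only [pol_eq, Pi.add_apply, Pi.smul_apply, Pi.single_apply, smul_eq_mul, Int.cast_zero,
    mul_zero, zero_mul, sub_zero, CharTwo.neg_eq, hinj]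
  simp only [ite_and, mul_ite, ite_mul, mul_one, mul_zero, one_mul, zero_mul]

end entries

variable {K : Type*} [Field K]

/-- Matrices of degree eight from the orthogonal group. -/
noncomputable def toMat : O (plusQ 4 K) →* Mat8 K :=
  (Units.map (Matrix.reindexAlgEquiv K K finSumFinEquiv).toMulEquiv.toMonoidHom).comp
    (O (plusQ 4 K)).subtype

variable [CharP K 2] {ω : K}

theorem toMat_X {r : ℕ} (hr : r < chevD4.nroots) {c : ℕ} (hc : c < 8) :
    Enc ω (toMat ((modelD4 K).X r (evC ω c))) (xCode r c) := by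
  have h := xEntry_ok
  simp only [xEntryB, List.all_eq_true, List.mem_range, List.mem_finRange, true_implies,
    Bool.and_eq_true, beq_iff_eq] at h
  obtain ⟨hl, he⟩ := h r hr c hc
  refine ⟨hl, ?_⟩
  ext i j
  show ((((modelD4 K).X r (evC ω c) : O (plusQ 4 K)) : Matrix.GeneralLinearGroup (Fin 4 ⊕ Fin 4) K) :
        Matrix (Fin 4 ⊕ Fin 4) (Fin 4 ⊕ Fin 4) K) (finSumFinEquiv.symm i) (finSumFinEquiv.symm j) =
    ent ω ((xCode r c).getD i 0) j
  rw [ent_eq_evC, he i j, xGL_apply hr]
  simp only [coordIx, Equiv.apply_symm_apply, xEntry]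
  split_ifs <;> simp [evC_xor, evC_zero, evC_one, add_assoc, CharTwo.add_self_eq_zero]

/-- The codes of the squares. -/
def sqC (c : ℕ) : ℕ := [0, 1, 4, 5, 6, 7, 2, 3].getD c 0

theorem sqC_lt {c : ℕ} (hc : c < 8) : sqC c < 8 := by interval_cases c <;> decide

theorem evC_sqC (hω : ω ^ 3 = ω + 1) {c : ℕ} (hc : c < 8) : evC ω (sqC c) = evC ω c ^ 2 := by
  have h2 : (2 : K) = 0 := CharTwo.two_eq_zero
  interval_cases c <;> simp [evC, sqC, bval, Nat.testBit, Nat.shiftRight_eq_div_pow] <;> grind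

/-- The generating words with their images. -/
def genB : Bool :=
  xCode 14 1 == wC 64 && xCode 9 1 == mm (mm (nCode 1) (wC 64)) (nCode 1) &&
    (xCode 14 0 == oneC && xCode 9 0 == oneC) &&
    (List.range 8).all fun c =>
      mm (mm (xCode 18 c) (xCode 13 (sqC c))) (xCode 12 (sqC (sqC c))) == wC (c * 8) &&
        mm (mm (xCode 5 c) (xCode 10 (sqC c))) (xCode 11 (sqC (sqC c))) ==
          mm (mm (nCode 0) (wC (c * 8))) (nCode 0)

theorem gen_ok : genB = true := by decide +kernel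

variable [Fintype K] (hK : Fintype.card K = 8) (hω : ω ^ 3 = ω + 1)
include hK hω

theorem evC_surj (t : K) : ∃ c < 8, evC ω c = t := by
  classical
  have hinj : Function.Injective fun c : Fin 8 => evC ω c.val := by
    intro a b h
    obtain ⟨h0, h1, h2⟩ := ent_bits hω h
    refine Fin.ext (Nat.eq_of_testBit_eq fun i => ?_)
    match i with
    | 0 => exact h0
    | 1 => exact h1
    | 2 => exact h2
    | i + 3 =>
      have hb : ∀ x : Fin 8, x.val < 2 ^ (i + 3) := fun x =>
        x.isLt.trans_le (Nat.pow_le_pow_right (show 0 < 2 by norm_num) (show 3 ≤ i + 3 by omega))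
      rw [Nat.testBit_lt_two_pow (hb a), Nat.testBit_lt_two_pow (hb b)]
  obtain ⟨c, hc⟩ := ((Fintype.bijective_iff_injective_and_card _).2 ⟨hinj, by simp [hK]⟩).2 t
  exact ⟨c, c.isLt, hc⟩

/-- The natural representation. -/
theorem exists_natural : ∃ ρ : ↥(twistedD4 K 2) →* Mat8 K, Function.Injective ρ ∧
    (∀ g, ρ g ∈ natGroup hω) ∧ ∀ w ∈ d4Words K 2, ∀ h : (coreD4 K).wordGL w ∈ twistedD4 K 2,
      ρ ⟨_, h⟩ = (w.map fun p => toMat ((modelD4 K).X p.1 p.2)).prod := by
  classical
  set C := coreD4 K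
  have hp : Fact (Nat.Prime 2) := ⟨Nat.prime_two⟩
  have : ExpChar K 2 := ExpChar.prime Nat.prime_two
  have hadj : ChevCover.Cover.HasNeighbours chevD4 := ChevCover.hasNeighbours (by simp)
  have hinj : Function.Injective (C.R.torus (F := K)) :=
    SimpleCount.torus_injective_of_gcd C smithD4 (by rw [hK]; decide +kernel)
  obtain ⟨e, he⟩ := ChevCover.exists_cover_equiv C (RegTorus.etaNegD4 K) hadj
  have hker := ChevCover.ker_groupHom_eq_bot C hadj hinj
  let θ : chevD4.SteinbergGroup K ≃* ↥(chevD4.group K) := MulEquiv.ofBijective _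
    ⟨(MonoidHom.ker_eq_bot_iff _).1 hker, ChevCover.groupHom_surjective C⟩
  let nat : ↥(chevD4.group K) →* Mat8 K :=
    toMat.comp (((modelD4 K).hom termsD4).comp (e.symm.toMonoidHom.comp θ.symm.toMonoidHom))
  have hx : ∀ r < chevD4.nroots, ∀ t : K,
      nat ⟨C.xGL r t, C.xGL_mem_group r t⟩ = toMat ((modelD4 K).X r t) := by
    intro r hr t
    have h1 : θ.symm ⟨C.xGL r t, C.xGL_mem_group r t⟩ = chevD4.stGen K r t :=
      θ.symm_apply_eq.2 (ChevCover.groupHom_stGen C r t).symm
    show toMat ((modelD4 K).hom termsD4 (e.symm (θ.symm _))) = _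
    rw [h1, show e.symm (chevD4.stGen K r t) = chevD4.scGen K r t from
      e.symm_apply_eq.2 (he r t).symm, RootModel.hom_gen _ _ hr]
  have hle : twistedD4 K 2 ≤ chevD4.group K := by
    refine (Subgroup.closure_le _).2 ?_
    rintro g ⟨w, -, hg⟩
    rw [show g = C.wordGL w from Units.ext (hg.trans (C.coe_wordGL w).symm)]
    exact C.wordGL_mem_group w
  let ρ : ↥(twistedD4 K 2) →* Mat8 K := nat.comp (Subgroup.inclusion hle)
  have hword : ∀ w : List (ℕ × K), (∀ p ∈ w, p.1 < chevD4.nroots) →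
      ∀ h : C.wordGL w ∈ chevD4.group K,
        nat ⟨_, h⟩ = (w.map fun p => toMat ((modelD4 K).X p.1 p.2)).prod := by
    intro w
    induction w with
    | nil => intro _ h; exact map_one nat
    | cons p w ih =>
      intro hp h
      rw [show (⟨C.wordGL (p :: w), h⟩ : ↥(chevD4.group K)) =
          ⟨C.xGL p.1 p.2, C.xGL_mem_group _ _⟩ * ⟨C.wordGL w, C.wordGL_mem_group w⟩ from
          Subtype.ext (C.wordGL_cons p w), map_mul, hx _ (hp p (List.mem_cons_self ..)),
        ih (fun q hq => hp q (List.mem_cons_of_mem _ hq)), List.map_cons, List.prod_cons]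
  have hwlt : ∀ w ∈ d4Words K 2, ∀ p ∈ w, p.1 < chevD4.nroots := by
    rintro w (⟨t, -, r, hr, rfl⟩ | ⟨t, rs, hrs, rfl⟩) p hp
    · rw [List.mem_singleton] at hp; subst hp; show r < _; clear t; revert r; decide
    · simp only [List.mem_cons, List.not_mem_nil, or_false] at hrs hp
      rcases hrs with rfl | rfl <;> rcases hp with rfl | rfl | rfl <;> dsimp only <;> decide
  have hρw : ∀ w ∈ d4Words K 2, ∀ h : C.wordGL w ∈ twistedD4 K 2,
      ρ ⟨_, h⟩ = (w.map fun p => toMat ((modelD4 K).X p.1 p.2)).prod :=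
    fun w hw h => hword w (hwlt w hw) _
  have hn : Fintype.card K = (2 ^ 1) * (2 ^ 1) * (2 ^ 1) := by rw [hK]; rfl
  have hG : gU hω 0 ∈ natGroup hω := Subgroup.mem_sup_left (Subgroup.subset_closure
    ⟨0, Nat.zero_le _, rfl⟩)
  have hwU : ∀ c, wordU (gU hω) c ∈ natGroup hω := fun c =>
    Subgroup.mem_sup_left (cut_zero_wordU_mem c)
  have hnU : ∀ i, nU hω i ∈ natGroup hω := fun i =>
    Subgroup.mem_sup_right (Subgroup.subset_closure ⟨i, rfl⟩)
  have hgen : ∀ w ∈ d4Words K 2, (w.map fun p => toMat ((modelD4 K).X p.1 p.2)).prod ∈ natGroup hω := by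
    have hb := gen_ok
    simp only [genB, Bool.and_eq_true, beq_iff_eq, List.all_eq_true, List.mem_range] at hb
    obtain ⟨⟨⟨hp1, hm1⟩, hp0, hm0⟩, htr⟩ := hb
    have hxe : ∀ r < chevD4.nroots, ∀ c < 8, Enc ω (toMat ((modelD4 K).X r (evC ω c))) (xCode r c) :=
      fun r hr c hc => toMat_X hr hc
    rintro w (⟨t, ht, r, hr, rfl⟩ | ⟨t, rs, hrs, rfl⟩)
    · have h01 : t = evC ω 0 ∨ t = evC ω 1 := by
        rw [evC_zero, evC_one]
        have : t * (t - 1) = 0 := by rw [mul_sub, mul_one, ← _root_.sq, ht, sub_self]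
        rcases mul_eq_zero.1 this with h | h
        exacts [Or.inl h, Or.inr (sub_eq_zero.1 h)]
      simp only [List.mem_cons, List.not_mem_nil, or_false] at hr
      simp only [List.map_cons, List.map_nil, List.prod_cons, List.prod_nil, mul_one]
      rcases h01 with rfl | rfl <;> rcases hr with rfl | rfl
      · exact ((hxe 14 (by decide) 0 (by norm_num)).ext ω (enc_one ω) hp0) ▸ one_mem _
      · exact ((hxe 9 (by decide) 0 (by norm_num)).ext ω (enc_one ω) hm0) ▸ one_mem _
      · exact ((hxe 14 (by decide) 1 (by norm_num)).ext ω (wU_enc hω 64) hp1) ▸ hwU _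
      · exact ((hxe 9 (by decide) 1 (by norm_num)).ext ω
          (((nU_enc hω 1).mul ω hω (wU_enc hω 64)).mul ω hω (nU_enc hω 1)) hm1) ▸
          mul_mem (mul_mem (hnU 1) (hwU _)) (hnU 1)
    · obtain ⟨c, hc, rfl⟩ := evC_surj hK hω t
      obtain ⟨h1, h2⟩ := htr c hc
      have hc1 := sqC_lt hc
      simp only [List.mem_cons, List.not_mem_nil, or_false] at hrs
      simp only [List.map_cons, List.map_nil, List.prod_cons, List.prod_nil, mul_one]
      rw [show evC ω c ^ 2 ^ 2 = evC ω (sqC (sqC c)) by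
          rw [evC_sqC hω hc1, evC_sqC hω hc, ← pow_mul]; norm_num,
        ← evC_sqC hω hc, ← mul_assoc]
      rcases hrs with rfl | rfl
      · exact ((((hxe 18 (by decide) c hc).mul ω hω (hxe 13 (by decide) _ hc1)).mul ω hω
          (hxe 12 (by decide) _ (sqC_lt hc1))).ext ω (wU_enc hω _) h1) ▸ hwU _
      · exact ((((hxe 5 (by decide) c hc).mul ω hω (hxe 10 (by decide) _ hc1)).mul ω hω
          (hxe 11 (by decide) _ (sqC_lt hc1))).ext ω
            (((nU_enc hω 0).mul ω hω (wU_enc hω _)).mul ω hω (nU_enc hω 0)) h2) ▸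
          mul_mem (mul_mem (hnU 0) (hwU _)) (hnU 0)
  refine ⟨ρ, ?_, ?_, hρw⟩
  · have hs := (Twisted.isSimpleD4 (K := K) (p := 2) (n := 1) hn le_rfl).1
    rcases (MonoidHom.normal_ker ρ).eq_bot_or_eq_top with h | h
    · exact (MonoidHom.ker_eq_bot_iff ρ).1 h
    · exfalso
      have hw : [(d4p2, (1 : K))] ∈ d4Words K 2 := Or.inl ⟨1, one_pow _, d4p2, by simp, rfl⟩
      have hm := C.wordGL_mem_gen hw
      have h1 : ρ ⟨_, hm⟩ = 1 := MonoidHom.mem_ker.1 (h ▸ Subgroup.mem_top _)
      rw [hρw _ hw hm] at h1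
      simp only [List.map_cons, List.map_nil, List.prod_cons, List.prod_nil, mul_one] at h1
      rw [← evC_one (ω := ω)] at h1
      refine dec_ne_of_differs hω (A := xCode 14 1) (B := oneC) (by decide +kernel) ?_
      rw [← (toMat_X (r := 14) (by decide) (by norm_num : 1 < 8)).2, ← (enc_one ω).2]
      exact congrArg Units.val h1
  · rintro ⟨g, hg⟩
    induction hg using Subgroup.closure_induction with
    | mem x hx =>
      obtain ⟨w, hw, hxw⟩ := hx
      obtain rfl : x = C.wordGL w := Units.ext (hxw.trans (C.coe_wordGL w).symm)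
      exact hρw w hw _ ▸ hgen w hw
    | one => exact (map_one ρ).symm ▸ one_mem _
    | mul a b ha hb h1 h2 =>
      rw [show (⟨a * b, _⟩ : ↥(twistedD4 K 2)) = ⟨a, ha⟩ * ⟨b, hb⟩ from rfl, map_mul]
      exact mul_mem h1 h2
    | inv a ha h1 =>
      rw [show (⟨a⁻¹, _⟩ : ↥(twistedD4 K 2)) = ⟨a, ha⟩⁻¹ from rfl, map_inv]
      exact inv_mem h1

end CfsgLib.SpecD4Two
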