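import Cfsg.Agent.Lib.SpecD4Two.Hom
import Mathlib.GroupTheory.SemidirectProduct

/-!
Split extensions of powers of the natural module by ³D₄(2) have the same element orders.
-/

set_option autoImplicit false
set_option linter.unusedSectionVars false

namespace CfsgLib.SpecD4Two

open Cfsg.Lie CfsgLib.ChevStr CfsgLib.OrthIso

/-- The action on powers of the natural module. -/
def powerAction {K : Type*} [Field K] (k : ℕ) :
    Mat8 K →* MulAut (Multiplicative (Fin k → Fin 8 → K)) where
  toFun g :=
    { toFun := fun v => .ofAdd fun i => (g : Matrix (Fin 8) (Fin 8) K).mulVec (v.toAdd i)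
      invFun := fun v => .ofAdd fun i => ((g⁻¹ : Mat8 K) : Matrix (Fin 8) (Fin 8) K).mulVec (v.toAdd i)
      left_inv := fun v => by simp [Matrix.mulVec_mulVec]
      right_inv := fun v => by simp [Matrix.mulVec_mulVec]
      map_mul' := fun v w => congrArg Multiplicative.ofAdd
        (funext fun i => Matrix.mulVec_add _ (v.toAdd i) (w.toAdd i)) }
  map_one' := by ext v i; simp
  map_mul' g h := by ext v i; simp [Matrix.mulVec_mulVec]

variable {K : Type*} [Field K] [CharP K 2] {G : Type*} [Group G] (ρ : G →* Mat8 K) {k : ℕ}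

/-- The split extension. -/
abbrev Ext (ρ : G →* Mat8 K) (k : ℕ) :=
  Multiplicative (Fin k → Fin 8 → K) ⋊[(powerAction k).comp ρ] G

theorem pow_left_apply (x : Ext ρ k) : ∀ (m : ℕ) (i : Fin k), (x ^ m).left.toAdd i =
    (∑ j ∈ Finset.range m, (ρ x.right : Matrix (Fin 8) (Fin 8) K) ^ j).mulVec (x.left.toAdd i)
  | 0, i => by simp
  | m + 1, i => by
    rw [pow_succ', SemidirectProduct.mul_left]
    show x.left.toAdd i + (ρ x.right : Matrix (Fin 8) (Fin 8) K).mulVec ((x ^ m).left.toAdd i) = _
    rw [pow_left_apply x m i, Matrix.mulVec_mulVec, geom_sum_succ, Matrix.add_mulVec,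
      Matrix.one_mulVec, add_comm]

theorem orderOf_ext (x : Ext ρ k) (hρ : Function.Injective ρ) (h : Small (ρ x.right)) :
    orderOf x = orderOf x.right ∨
      orderOf x.right ∈ [1, 2, 3, 4, 6, 7] ∧ orderOf x = 2 * orderOf x.right := by
  set n := orderOf x.right
  have hn : orderOf (ρ x.right) = n := orderOf_injective ρ hρ _
  have hdvd : n ∣ orderOf x := orderOf_map_dvd (SemidirectProduct.rightHom) x
  have hr : (x ^ n).right = 1 := by
    rw [show (x ^ n).right = SemidirectProduct.rightHom (x ^ n) from rfl, map_pow]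
    exact pow_orderOf_eq_one x.right
  rw [Small, hn] at h
  rcases h with h | h
  · have h2 : x ^ n * x ^ n = 1 := by
      ext i j
      · rw [SemidirectProduct.mul_left, hr, map_one]
        show ((x ^ n).left.toAdd i + (x ^ n).left.toAdd i) j = 0
        simp [CharTwo.add_self_eq_zero]
      · rw [SemidirectProduct.mul_right, hr, one_mul]; rfl
    have ho : orderOf x ∣ n * 2 := orderOf_dvd_of_pow_eq_one (by rw [mul_two, pow_add, h2])
    obtain ⟨c, hc⟩ := hdvd
    rw [hc] at ho
    have hn0 : 0 < n := by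
      rcases Nat.eq_zero_or_pos n with h0 | h0
      · rw [h0] at h; simp at h
      · exact h0
    rcases (Nat.dvd_prime Nat.prime_two).1 (Nat.dvd_of_mul_dvd_mul_left hn0 ho) with rfl | rfl
    · exact Or.inl (by rw [hc, mul_one])
    · exact Or.inr ⟨h, by rw [hc, mul_comm]⟩
  · left
    refine Nat.dvd_antisymm (orderOf_dvd_of_pow_eq_one ?_) hdvd
    refine SemidirectProduct.ext ?_ hr
    refine Multiplicative.toAdd.injective (funext fun i => ?_)
    rw [pow_left_apply, h, Matrix.zero_mulVec]
    rfl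

omit ρ in
/-- The order of a coded element. -/
def orderB (A : List ℕ) (m : ℕ) : Bool :=
  powC A m == oneC && (List.range m).all fun j => j == 0 || differs (powC A j) oneC

theorem orderOf_of_orderB {ω : K} (hω : ω ^ 3 = ω + 1) {g : Mat8 K} {A : List ℕ} {m : ℕ}
    (hA : Enc ω g A) (hm : 0 < m) (h : orderB A m = true) : orderOf g = m := by
  simp only [orderB, Bool.and_eq_true, beq_iff_eq, List.all_eq_true, List.mem_range,
    Bool.or_eq_true] at h
  refine (orderOf_eq_iff hm).2 ⟨(powC_enc hω hA m).ext ω (enc_one ω) h.1, fun j hj hj0 e => ?_⟩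
  refine dec_ne_of_differs hω ((h.2 j hj).resolve_left (by omega)) ?_
  rw [← (powC_enc hω hA j).2, e, dec_oneC, Units.val_one]

/-- The codes of six generators. -/
def witGen : Fin 6 → List ℕ :=
  ![mm (mm (xCode 18 1) (xCode 13 1)) (xCode 12 1),
    mm (mm (xCode 18 2) (xCode 13 4)) (xCode 12 6),
    mm (mm (xCode 5 1) (xCode 10 1)) (xCode 11 1),
    mm (mm (xCode 5 3) (xCode 10 5)) (xCode 11 7),
    xCode 14 1, xCode 9 1]

/-- Words of orders 2, 4, 6, 8, 12 and 14. -/
def witList : List (ℕ × List (Fin 6)) :=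
  [(2, [0]), (4, [0, 4, 0, 4]), (6, [0, 4, 5]), (8, [0, 4]), (12, [0, 2, 4]), (14, [0, 1, 3, 1, 4])]

theorem wit_ok : witList.all (fun p => orderB (p.2.foldl (fun A i => mm A (witGen i)) oneC) p.1) =
    true := by decide +kernel

variable {K : Type*} [Field K] [Fintype K]

/-- The element orders of split extensions by powers of the natural module. -/
theorem exists_isospectral (hK : Fintype.card K = 8) (N : ℕ) :
    ∃ (H : Type) (_ : Group H) (_ : Fintype H), N < Fintype.card H ∧
      Set.range (orderOf : H → ℕ) = Set.range (orderOf : twistedD4 K 2 → ℕ) := by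
  classical
  have : Fact (Nat.Prime 2) := ⟨Nat.prime_two⟩
  have : CharP K 2 := charP_of_card_eq_prime_pow (f := 3) (by rw [hK]; rfl)
  obtain ⟨ω, hω⟩ : ∃ ω : K, ω ^ 3 = ω + 1 := by
    obtain ⟨t, h0, h1⟩ : ∃ t : K, t ≠ 0 ∧ t ≠ 1 := by
      by_contra hne
      push Not at hne
      have h2 : (Finset.univ : Finset K) ⊆ {0, 1} := fun t _ => by
        rw [Finset.mem_insert, Finset.mem_singleton]
        exact or_iff_not_imp_left.2 (hne t)
      have := (Finset.card_le_card h2).trans Finset.card_le_two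
      rw [Finset.card_univ, hK] at this
      omega
    have h7 : t ^ 7 = 1 := by
      have := FiniteField.pow_card_sub_one_eq_one t h0
      rwa [hK] at this
    have h2 : (2 : K) = 0 := CharTwo.two_eq_zero
    have : (t ^ 3 + t + 1) * (t ^ 3 + t ^ 2 + 1) = 0 := by
      refine (mul_eq_zero.1 ?_).resolve_left (sub_ne_zero.2 h1)
      linear_combination h7 + (t ^ 4 - t ^ 3) * h2
    rcases mul_eq_zero.1 this with h | h
    · exact ⟨t, by linear_combination h - (t + 1) * h2⟩
    · exact ⟨t + 1, by linear_combination h + (t ^ 2 + t - 1) * h2⟩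
  obtain ⟨ρ, hρ, hmem, hw⟩ := exists_natural hK hω
  -- witnesses
  have hC : ∀ i : Fin 6, ∃ g : ↥(twistedD4 K 2), Enc ω (ρ g) (witGen i) := by
    have hx : ∀ r < chevD4.nroots, ∀ c < 8,
        Enc ω (toMat ((modelD4 K).X r (evC ω c))) (xCode r c) := fun r hr c hc => toMat_X hr hc
    have tri : ∀ a b d : ℕ, (a, b, d) ∈ [(d4p1, d4p3, d4p4), (d4m1, d4m3, d4m4)] → a < chevD4.nroots →
        b < chevD4.nroots → d < chevD4.nroots → ∀ c < 8, ∃ g : ↥(twistedD4 K 2),
          Enc ω (ρ g) (mm (mm (xCode a c) (xCode b (sqC c))) (xCode d (sqC (sqC c)))) := by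
      intro a b d hm ha hb hd c hc
      have hwm : [(a, evC ω c), (b, evC ω c ^ 2), (d, evC ω c ^ 2 ^ 2)] ∈ d4Words K 2 :=
        Or.inr ⟨evC ω c, (a, b, d), hm, rfl⟩
      have hin : (coreD4 K).wordGL _ ∈ twistedD4 K 2 := (coreD4 K).wordGL_mem_gen hwm
      refine ⟨⟨_, hin⟩, ?_⟩
      rw [hw _ hwm hin]
      simp only [List.map_cons, List.map_nil, List.prod_cons, List.prod_nil, mul_one, ← mul_assoc]
      rw [show evC ω c ^ 2 ^ 2 = evC ω (sqC (sqC c)) by
        rw [evC_sqC hω (sqC_lt hc), evC_sqC hω hc, ← pow_mul]; norm_num, ← evC_sqC hω hc]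
      exact ((hx a ha c hc).mul ω hω (hx b hb _ (sqC_lt hc))).mul ω hω
        (hx d hd _ (sqC_lt (sqC_lt hc)))
    have single : ∀ r, r ∈ [d4p2, d4m2] → r < chevD4.nroots → ∃ g : ↥(twistedD4 K 2),
        Enc ω (ρ g) (xCode r 1) := by
      intro r hr hlt
      have hwm : [(r, evC ω 1)] ∈ d4Words K 2 :=
        Or.inl ⟨evC ω 1, by rw [evC_one, one_pow], r, hr, rfl⟩
      have hin : (coreD4 K).wordGL _ ∈ twistedD4 K 2 := (coreD4 K).wordGL_mem_gen hwm
      refine ⟨⟨_, hin⟩, ?_⟩
      rw [hw _ hwm hin]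
      simpa using hx r hlt 1 (by norm_num)
    intro i
    fin_cases i
    · exact tri d4p1 d4p3 d4p4 (by simp) (by decide) (by decide) (by decide) 1 (by norm_num)
    · exact tri d4p1 d4p3 d4p4 (by simp) (by decide) (by decide) (by decide) 2 (by norm_num)
    · exact tri d4m1 d4m3 d4m4 (by simp) (by decide) (by decide) (by decide) 1 (by norm_num)
    · exact tri d4m1 d4m3 d4m4 (by simp) (by decide) (by decide) (by decide) 3 (by norm_num)
    · exact single d4p2 (by simp) (by decide)
    · exact single d4m2 (by simp) (by decide)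
  choose γ hγ using hC
  have hwit : ∀ m ∈ [2, 4, 6, 8, 12, 14], ∃ g : ↥(twistedD4 K 2), orderOf g = m := by
    have hfold : ∀ (l : List (Fin 6)) (x : ↥(twistedD4 K 2)) (X : List ℕ), Enc ω (ρ x) X →
        Enc ω (ρ (x * (l.map γ).prod)) (l.foldl (fun A i => mm A (witGen i)) X) := by
      intro l
      induction l with
      | nil => intro x X h; simpa using h
      | cons j l ih =>
        intro x X h
        rw [List.map_cons, List.prod_cons, ← mul_assoc]
        exact ih _ _ (by rw [map_mul]; exact h.mul ω hω (hγ j))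
    intro m hm
    obtain ⟨l, hl⟩ : ∃ l, (m, l) ∈ witList := by
      simp only [List.mem_cons, List.not_mem_nil, or_false] at hm
      rcases hm with rfl | rfl | rfl | rfl | rfl | rfl <;> simp [witList]
    refine ⟨(l.map γ).prod, ?_⟩
    have hm0 : 0 < m := by
      simp only [List.mem_cons, List.not_mem_nil, or_false] at hm; omega
    have h := hfold l 1 oneC (by rw [map_one]; exact enc_one ω)
    rw [one_mul] at h
    rw [← orderOf_injective ρ hρ]
    exact orderOf_of_orderB hω h hm0 (List.all_eq_true.1 wit_ok _ hl)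
  have : Fintype ↥(twistedD4 K 2) := Fintype.ofFinite _
  let H0 := Ext ρ (N + 1)
  have : Finite H0 := Finite.of_equiv _ SemidirectProduct.equivProd.symm
  have : Fintype H0 := Fintype.ofFinite _
  have : _root_.Small.{0} H0 := Countable.toSmall H0
  let f : H0 ≃* Shrink.{0} H0 := (Shrink.mulEquiv.{0} (α := H0)).symm
  refine ⟨Shrink.{0} H0, inferInstance, Fintype.ofEquiv H0 (equivShrink.{0} H0), ?_, ?_⟩
  · rw [Fintype.ofEquiv_card, ← Nat.card_eq_fintype_card (α := H0), SemidirectProduct.card]
    have h1 : 0 < Nat.card ↥(twistedD4 K 2) := Nat.card_pos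
    have h2 : N < Nat.card (Multiplicative (Fin (N + 1) → Fin 8 → K)) := by
      rw [Nat.card_congr Multiplicative.toAdd, Nat.card_pi, Finset.prod_const, Finset.card_univ,
        Fintype.card_fin, Nat.card_pi, Finset.prod_const, Finset.card_univ, Fintype.card_fin,
        Nat.card_eq_fintype_card, hK]
      exact (Nat.lt_succ_self N).trans (Nat.lt_pow_self (by norm_num))
    exact h2.trans_le (Nat.le_mul_of_pos_right _ h1)
  · ext m
    constructor
    · rintro ⟨y, rfl⟩
      obtain ⟨x, rfl⟩ := f.surjective y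
      rw [f.orderOf_eq]
      rcases orderOf_ext ρ x hρ (natGroup_small hω (hmem x.right)) with h | ⟨hm, h⟩
      · exact ⟨x.right, h.symm⟩
      · rw [h]
        refine hwit _ ?_
        simp only [List.mem_cons, List.not_mem_nil, or_false] at hm ⊢
        omega
    · rintro ⟨g, rfl⟩
      exact ⟨f (SemidirectProduct.inr g), by
        rw [f.orderOf_eq]; exact orderOf_injective _ SemidirectProduct.inr_injective g⟩

end CfsgLib.SpecD4Two
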