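import Cfsg.Agent.Lib.SpecD4Two.Code

/-!
Certificates that all elements of a coset of the Borel subgroup have small order or vanishing
norm map.
-/

set_option autoImplicit false

namespace CfsgLib.SpecD4Two

/-- The goal: small order or vanishing norm map. -/
def Small {R : Type*} [Ring R] (g : Rˣ) : Prop :=
  orderOf g ∈ [1, 2, 3, 4, 6, 7] ∨ ∑ i ∈ Finset.range (orderOf g), (g : R) ^ i = 0

theorem small_conj {R : Type*} [Ring R] (a b : Rˣ) (h : Small (a * b)) : Small (b * a) := by
  have hc : SemiconjBy b (a * b) (b * a) := by simp [SemiconjBy, mul_assoc]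
  have ho : orderOf (b * a) = orderOf (a * b) := (hc.orderOf_eq b).symm
  rcases h with h | h
  · exact Or.inl (ho ▸ h)
  right
  rw [ho]
  have e : ∀ i : ℕ, ((b * a : Rˣ) : R) ^ i =
      (b : R) * ((a * b : Rˣ) : R) ^ i * ((b⁻¹ : Rˣ) : R) := fun i => by
    rw [← Units.val_pow_eq_pow_val, ← Units.val_pow_eq_pow_val, ← Units.val_mul, ← Units.val_mul,
      ← conj_pow]
    congr 2
    group
  simp only [e, ← Finset.mul_sum, ← Finset.sum_mul, h, mul_zero, zero_mul]

/-- A certificate. -/
inductive Cert
  | inv (Y : List ℕ)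
  | ord (m : ℕ)
  | zero (m : ℕ)
  | link (c t m : ℕ)
  | br (cs : Cert)
  | nil
  | cons (c cs : Cert)

/-- The children of a branch. -/
def Cert.kids : Cert → List Cert
  | .cons c cs => c :: cs.kids
  | _ => []

/-- A branch with the given children. -/
def Cert.node (l : List Cert) : Cert := .br (l.foldr .cons .nil)

theorem Cert.kids_foldr : ∀ l : List Cert, Cert.kids (l.foldr .cons .nil) = l
  | [] => rfl
  | c :: l => by rw [List.foldr_cons, Cert.kids, Cert.kids_foldr l]

/-- A child that is not a link. -/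
def isExp : Cert → Bool
  | .link _ _ _ => false
  | _ => true

/-- The position of a generator. -/
def gpos (j : Fin 13) : ℕ := if j.val = 0 then 0 else 2 + j.val

/-- The letters of a word code. -/
def letters (c : ℕ) : List (Fin 13) :=
  List.replicate (c % 8) 0 ++
    (List.finRange 12).filterMap fun j => if c.testBit (3 + j.val) then some j.succ else none

/-- The code of a word. -/
def wordC (gC : Fin 13 → List ℕ) (c : ℕ) : List ℕ :=
  (letters c).foldl (fun A j => mm A (gC j)) oneC

/-- The boundaries of the levels. -/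
def cut (L : ℕ) : ℕ := [0, 3, 6, 7, 10, 13, 14].getD L 15

/-- The representatives of a level. -/
def reps (L : ℕ) : List ℕ :=
  if L = 0 then List.range 7 else (List.range (2 ^ (cut (L + 1) - cut L))).map (· * 2 ^ cut L)

/-- A word in the subgroup of a level. -/
def inLev (L c : ℕ) : Bool := (letters c).all fun j => decide (cut L ≤ gpos j)

/-- The coded power. -/
def powC (A : List ℕ) : ℕ → List ℕ
  | 0 => oneC
  | m + 1 => mm (powC A m) A

/-- The coded geometric sum. -/
def sumC (A : List ℕ) : ℕ → List ℕ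
  | 0 => [0, 0, 0, 0, 0, 0, 0, 0]
  | m + 1 => addC (mm (sumC A m) A) oneC

/-- Two codes have a different bit. -/
def differs (A B : List ℕ) : Bool :=
  (List.finRange 8).any fun i => (List.finRange 8).any fun j =>
    (A.getD i.val 0).testBit j.val != (B.getD i.val 0).testBit j.val ||
    (A.getD i.val 0).testBit (8 + j.val) != (B.getD i.val 0).testBit (8 + j.val) ||
    (A.getD i.val 0).testBit (16 + j.val) != (B.getD i.val 0).testBit (16 + j.val)

/-- The check of a leaf. -/
def leafOK (A : List ℕ) : Cert → Bool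
  | .inv Y => Y.length == 8 && mm Y (addC A oneC) == oneC
  | .ord m => (m == 4 || m == 6 || m == 7) && powC A m == oneC
  | .zero m => powC A m == oneC && sumC A m == [0, 0, 0, 0, 0, 0, 0, 0] &&
      (m % 2 == 1 || differs (powC A (m / 2)) oneC)
  | _ => false

/-- The check of a node with the checks of the expanded children given. -/
def nodeOK (gC : Fin 13 → List ℕ) (L : ℕ) (chkR : List ℕ → Cert → Bool) (A : List ℕ)
    (cs : List Cert) : Bool :=
  cs.length == (reps L).length &&
    (List.range cs.length).all fun j => match cs.getD j (.ord 0) with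
      | .link c t m =>
          decide (t < cs.length) && isExp (cs.getD t (.ord 0)) && inLev (L + 1) m &&
            mm (mm (wordC gC c) A) (wordC gC ((reps L).getD j 0)) ==
              mm (mm (mm A (wordC gC ((reps L).getD t 0))) (wordC gC m)) (wordC gC c)
      | e => chkR (mm A (wordC gC ((reps L).getD j 0))) e

/-- The check of a certificate at level `7 - f`. -/
def chk (gC : Fin 13 → List ℕ) : ℕ → List ℕ → Cert → Bool
  | 0, A, e => leafOK A e
  | f + 1, A, .br cs => nodeOK gC (6 - f) (fun B e => chk gC f B e) A cs.kids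
  | _ + 1, _, _ => false

variable {K : Type*} [Field K] [CharP K 2] {ω : K} (hω : ω ^ 3 = ω + 1)

/-- The units of the matrix algebra. -/
abbrev Mat8 (K : Type*) [Field K] := (Matrix (Fin 8) (Fin 8) K)ˣ

omit [CharP K 2] in
theorem ent_bits (hω : ω ^ 3 = ω + 1) [CharP K 2] {a b c a' b' c' : Bool}
    (h : bval a + ω * bval b + ω ^ 2 * bval c = (bval a' : K) + ω * bval b' + ω ^ 2 * bval c') :
    a = a' ∧ b = b' ∧ c = c' := by
  have h2 : (2 : K) = 0 := CharTwo.two_eq_zero
  have key : ∀ a b c : Bool, (bval a : K) + ω * bval b + ω ^ 2 * bval c = 0 →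
      a = false ∧ b = false ∧ c = false := by
    intro a b c h
    rcases a <;> rcases b <;> rcases c <;> simp only [bval, Bool.false_eq_true, if_false, if_true,
      mul_zero, mul_one, add_zero, zero_add, and_self] at h ⊢
    all_goals exfalso
    all_goals refine one_ne_zero (α := K) ?_
    all_goals grind
  have h0 : (bval (a ^^ a') : K) + ω * bval (b ^^ b') + ω ^ 2 * bval (c ^^ c') = 0 := by
    simp only [bval_xor]
    linear_combination h + (bval a' + ω * bval b' + ω ^ 2 * bval c') * h2
  obtain ⟨e1, e2, e3⟩ := key _ _ _ h0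
  simp only [bne_eq_false_iff_eq] at e1 e2 e3
  exact ⟨e1, e2, e3⟩

include hω

theorem dec_ne_of_differs {A B : List ℕ} (h : differs A B = true) : dec ω A ≠ dec ω B := by
  simp only [differs, List.any_eq_true, List.mem_finRange, true_and, Bool.or_eq_true,
    bne_iff_ne] at h
  obtain ⟨i, j, h⟩ := h
  intro e
  have := congrFun (congrFun e i) j
  obtain ⟨h1, h2, h3⟩ := ent_bits hω this
  rcases h with (h | h) | h
  exacts [h h1, h h2, h h3]

theorem powC_enc {g : (Mat8 K)} {A : List ℕ} (hA : Enc ω g A) : ∀ m, Enc ω (g ^ m) (powC A m)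
  | 0 => by simpa [powC] using enc_one ω
  | m + 1 => by rw [pow_succ]; exact (powC_enc hA m).mul ω hω hA

theorem sumC_spec {g : (Mat8 K)} {A : List ℕ} (hA : Enc ω g A) : ∀ m, (sumC A m).length = 8 ∧
    dec ω (sumC A m) = ∑ i ∈ Finset.range m, (g : Matrix (Fin 8) (Fin 8) K) ^ i
  | 0 => ⟨rfl, by ext i j; fin_cases i <;> simp [sumC, dec, ent, bval]⟩
  | m + 1 => by
    obtain ⟨hl, hd⟩ := sumC_spec hA m
    have hl' : (mm (sumC A m) A).length = 8 := (mm_length _ _).trans hl
    refine ⟨addC_length hl' rfl, ?_⟩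
    rw [sumC, dec_addC ω hl' rfl, dec_mm ω hω hl hA.1, hd, ← hA.2, dec_oneC, geom_sum_succ',
      ← geom_sum_succ', geom_sum_succ]
    rw [Finset.sum_mul, Finset.mul_sum]
    simp only [← pow_succ, ← pow_succ']

theorem leaf_small {g : (Mat8 K)} {A : List ℕ} {e : Cert} (hA : Enc ω g A) (h : leafOK A e = true) :
    Small g := by
  cases e with
  | inv Y =>
    simp only [leafOK, Bool.and_eq_true, beq_iff_eq] at h
    right
    have h1 : dec ω Y * ((g : Matrix (Fin 8) (Fin 8) K) - 1) = 1 := by
      rw [CharTwo.sub_eq_add, hA.2, ← dec_oneC ω, ← dec_addC ω hA.1 rfl,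
        ← dec_mm ω hω h.1 (addC_length hA.1 rfl), h.2]
    have h2 := congrArg (dec ω Y * ·) (mul_geom_sum (g : Matrix (Fin 8) (Fin 8) K) (orderOf g))
    simp only [← mul_assoc, h1, one_mul] at h2
    rw [h2, ← Units.val_pow_eq_pow_val, pow_orderOf_eq_one, Units.val_one, sub_self, mul_zero]
  | ord m =>
    simp only [leafOK, Bool.and_eq_true, Bool.or_eq_true, beq_iff_eq] at h
    have hg : g ^ m = 1 := (powC_enc hω hA m).ext ω (enc_one ω) h.2
    have hd := orderOf_dvd_of_pow_eq_one hg
    left
    rcases h.1 with (rfl | rfl) | rfl <;>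
    · have hle := Nat.le_of_dvd (by norm_num) hd
      generalize orderOf g = n at hd hle ⊢
      interval_cases n <;> simp_all
  | zero m =>
    simp only [leafOK, Bool.and_eq_true, Bool.or_eq_true, beq_iff_eq] at h
    have hg : g ^ m = 1 := (powC_enc hω hA m).ext ω (enc_one ω) h.1.1
    obtain ⟨k, hk⟩ := orderOf_dvd_of_pow_eq_one hg
    have hodd : Odd k := by
      rcases Nat.even_or_odd k with ⟨l, rfl⟩ | hk'
      · exfalso
        have hm2 : m % 2 = 0 := by rw [hk, ← two_mul, mul_left_comm]; omega
        have hd := h.2.resolve_left (by omega)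
        refine dec_ne_of_differs hω hd ?_
        have hgl : g ^ (m / 2) = 1 := by
          rw [show m / 2 = orderOf g * l by rw [hk, ← two_mul, mul_left_comm]; omega, pow_mul,
            pow_orderOf_eq_one, one_pow]
        rw [← (powC_enc hω hA (m / 2)).2, hgl, dec_oneC, Units.val_one]
      · exact hk'
    right
    have h0 : (0 : Matrix (Fin 8) (Fin 8) K) = dec ω [0, 0, 0, 0, 0, 0, 0, 0] := by
      ext i j; fin_cases i <;> simp [dec, ent, bval]
    have hsum := (sumC_spec hω hA m).2
    rw [h.1.2, ← h0, hk] at hsum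
    have hrep : ∀ l : ℕ, ∑ i ∈ Finset.range (orderOf g * l), (g : Matrix (Fin 8) (Fin 8) K) ^ i =
        l • ∑ i ∈ Finset.range (orderOf g), (g : Matrix (Fin 8) (Fin 8) K) ^ i := by
      intro l
      induction l with
      | zero => simp
      | succ l ih =>
        rw [Nat.mul_succ, Finset.sum_range_add, ih, succ_nsmul]
        congr 1
        refine Finset.sum_congr rfl fun i _ => ?_
        rw [pow_add, pow_mul, ← Units.val_pow_eq_pow_val g (orderOf g), pow_orderOf_eq_one,
          Units.val_one, one_pow, one_mul]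
    rw [hrep, nsmul_eq_mul] at hsum
    obtain ⟨l, rfl⟩ := hodd
    simpa [CharTwo.two_eq_zero] using hsum.symm
  | _ => simp [leafOK] at h

omit hω in
/-- The value of a word. -/
noncomputable def wordU (gu : Fin 13 → (Mat8 K)) (c : ℕ) : (Mat8 K) := ((letters c).map gu).prod

/-- The subgroup of a level. -/
def lev {H : Type*} [Group H] (gu : Fin 13 → H) (L : ℕ) : Subgroup H :=
  Subgroup.closure (gu '' {j | cut L ≤ gpos j})

variable {gC : Fin 13 → List ℕ} {gu : Fin 13 → (Mat8 K)} (hg : ∀ j, Enc ω (gu j) (gC j))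
include hg

theorem wordC_enc (c : ℕ) : Enc ω (wordU gu c) (wordC gC c) := by
  have : ∀ (l : List (Fin 13)) (x : (Mat8 K)) (X : List ℕ), Enc ω x X →
      Enc ω (x * (l.map gu).prod) (l.foldl (fun A j => mm A (gC j)) X) := by
    intro l
    induction l with
    | nil => intro x X h; simpa using h
    | cons j l ih =>
      intro x X h
      rw [List.map_cons, List.prod_cons, ← mul_assoc]
      exact ih _ _ (h.mul ω hω (hg j))
  simpa [wordU, wordC] using this (letters c) 1 oneC (enc_one ω)

omit hω hg in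
theorem wordU_mem_lev {L c : ℕ} (h : inLev L c = true) : wordU gu c ∈ lev gu L := by
  refine Subgroup.list_prod_mem _ fun x hx => ?_
  obtain ⟨j, hj, rfl⟩ := List.mem_map.1 hx
  exact Subgroup.subset_closure ⟨j, of_decide_eq_true (List.all_eq_true.1 h j hj), rfl⟩

omit hω hg in
theorem cut_zero_wordU_mem (c : ℕ) : wordU gu c ∈ lev gu 0 :=
  wordU_mem_lev (List.all_eq_true.2 fun _ _ => decide_eq_true (Nat.zero_le _))

variable (hsplit : ∀ L < 7, ∀ x ∈ lev gu L, ∃ j < (reps L).length, ∃ m ∈ lev gu (L + 1),
    x = wordU gu ((reps L).getD j 0) * m)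
  (hnorm : ∀ L, ∀ c ∈ lev gu 0, ∀ x ∈ lev gu L, c * x * c⁻¹ ∈ lev gu L)

omit hω hg in
/-- All elements of a coset are good. -/
def GoodCoset (gu : Fin 13 → (Mat8 K)) (L : ℕ) (a : (Mat8 K)) : Prop := ∀ m ∈ lev gu L, Small (a * m)

include hsplit hnorm

theorem node_sound {L : ℕ} (hL : L < 7) {a : (Mat8 K)} {A : List ℕ} {cs : List Cert} (hA : Enc ω a A)
    {chkR : List ℕ → Cert → Bool} (h : nodeOK gC L chkR A cs = true)
    (hrec : ∀ j < cs.length, isExp (cs.getD j (.ord 0)) = true →
      chkR (mm A (wordC gC ((reps L).getD j 0))) (cs.getD j (.ord 0)) = true →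
      GoodCoset gu (L + 1) (a * wordU gu ((reps L).getD j 0))) :
    GoodCoset gu L a := by
  simp only [nodeOK, Bool.and_eq_true, beq_iff_eq, List.all_eq_true, List.mem_range] at h
  obtain ⟨hlen, hall⟩ := h
  have hexp : ∀ j < cs.length, isExp (cs.getD j (.ord 0)) = true →
      GoodCoset gu (L + 1) (a * wordU gu ((reps L).getD j 0)) := fun j hj he => by
    refine hrec j hj he ?_
    have h1 := hall j hj
    revert h1 he
    generalize cs.getD j (.ord 0) = e
    cases e <;> simp [isExp]
  intro x hx
  obtain ⟨j, hj, m, hm, rfl⟩ := hsplit L hL x hx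
  rw [← hlen] at hj
  rw [← mul_assoc]
  by_cases he : isExp (cs.getD j (.ord 0)) = true
  · exact hexp j hj he m hm
  have h1 := hall j hj
  revert he h1
  generalize cs.getD j (.ord 0) = e
  intro he h1
  cases e with
  | link c t m' =>
    simp only [Bool.and_eq_true, decide_eq_true_eq, beq_iff_eq] at h1
    obtain ⟨⟨⟨ht, hte⟩, hml⟩, heq⟩ := h1
    have hw := wordC_enc hω hg
    have e1 : wordU gu c * a * wordU gu ((reps L).getD j 0) =
        a * wordU gu ((reps L).getD t 0) * wordU gu m' * wordU gu c :=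
      ((((hw c).mul ω hω hA).mul ω hω (hw _))).ext ω
        ((((hA.mul ω hω (hw _)).mul ω hω (hw m')).mul ω hω (hw c))) heq
    have h2 := hexp t ht hte _ (mul_mem (wordU_mem_lev hml)
      (hnorm (L + 1) _ (cut_zero_wordU_mem c) m hm))
    have e2 : wordU gu c * (a * wordU gu ((reps L).getD j 0) * m) * (wordU gu c)⁻¹ =
        a * wordU gu ((reps L).getD t 0) * (wordU gu m' * (wordU gu c * m * (wordU gu c)⁻¹)) := by
      calc _ = wordU gu c * a * wordU gu ((reps L).getD j 0) * m * (wordU gu c)⁻¹ := by group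
        _ = _ := by rw [e1]; group
    rw [← e2] at h2
    simpa [← mul_assoc] using small_conj _ _ h2
  | _ => simp [isExp] at he

theorem chk_sound : ∀ (f : ℕ), f ≤ 7 → ∀ (a : (Mat8 K)) (A : List ℕ) (e : Cert), Enc ω a A →
    chk gC f A e = true → GoodCoset gu (7 - f) a
  | 0, _, a, A, e, hA, h => fun m hm => by
    have : lev gu 7 = ⊥ := by
      rw [lev, Subgroup.closure_eq_bot_iff]
      rintro _ ⟨j, hj, rfl⟩
      exfalso
      have : gpos j ≤ 14 := by unfold gpos; split <;> omega
      change 15 ≤ gpos j at hj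
      omega
    rw [Nat.sub_zero, this, Subgroup.mem_bot] at hm
    rw [hm, mul_one]
    exact leaf_small hω hA h
  | f + 1, hf, a, A, .br cs, hA, h => by
    rw [chk] at h
    rw [show 7 - (f + 1) = 6 - f by omega]
    refine node_sound hω hg hsplit hnorm (by omega) hA h fun j hj he hj' => ?_
    rw [show 6 - f + 1 = 7 - f by omega]
    exact chk_sound f (by omega) _ _ _ (hA.mul ω hω (wordC_enc hω hg _)) hj'
  | _ + 1, _, _, _, .inv _, _, h => by simp [chk] at h
  | _ + 1, _, _, _, .ord _, _, h => by simp [chk] at h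
  | _ + 1, _, _, _, .zero _, _, h => by simp [chk] at h
  | _ + 1, _, _, _, .link _ _ _, _, h => by simp [chk] at h
  | _ + 1, _, _, _, .nil, _, h => by simp [chk] at h
  | _ + 1, _, _, _, .cons _ _, _, h => by simp [chk] at h

end CfsgLib.SpecD4Two
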